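import Mathlib
import Cfsg.Prelude.Def_OddOrderLocal
import Cfsg.Prelude.Def_LieExceptional
import Cfsg.Agent.Lib.OddLocal.CoprimeFix
import Cfsg.Agent.Lib.Hall.Basic

/-!
Elementary theory of CN-groups: elements of coprime order in nilpotent subgroups, quotients by
solvable normal subgroups, maximal nilpotent subgroups.
-/

set_option autoImplicit false

namespace Cfsg.Agent.Lib.CNGroup.Basic

open Subgroup
open Cfsg.Agent.Lib.OddLocal.CoprimeFix

universe u

variable {G : Type u} [Group G]

/-! ### Generalities -/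

theorem isNilpotent_mono {H K : Subgroup G} (hle : H ≤ K) (hK : Group.IsNilpotent K) :
    Group.IsNilpotent H :=
  Group.nilpotent_of_mulEquiv (Subgroup.subgroupOfEquivOfLe hle)

theorem commute_of_coprime_nilpotent (N : Type u) [Group N] [Group.IsNilpotent N] :
    ∀ a b : N, (orderOf a).Coprime (orderOf b) → a * b = b * a := by
  refine nilpotent_center_quotient_ind (P := fun N _ _ =>
    ∀ a b : N, (orderOf a).Coprime (orderOf b) → a * b = b * a) N ?_ ?_
  · intro N _ _ a b _
    exact Subsingleton.elim _ _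
  · intro N _ _ ih a b hab
    let f : N →* N ⧸ center N := QuotientGroup.mk' (center N)
    have h1 : f a * f b = f b * f a := ih (f a) (f b)
      ((hab.coprime_dvd_left (orderOf_map_dvd f a)).coprime_dvd_right (orderOf_map_dvd f b))
    obtain ⟨k, hk⟩ : ∃ k, k = a * b * a⁻¹ * b⁻¹ := ⟨_, rfl⟩
    have hkZ : k ∈ center N := by
      rw [hk, ← QuotientGroup.eq_one_iff]
      change f (a * b * a⁻¹ * b⁻¹) = 1
      rw [map_mul, map_mul, map_mul, map_inv, map_inv, h1, mul_inv_cancel_right, mul_inv_cancel]
    have hkc : ∀ y : N, y * k = k * y := mem_center_iff.mp hkZ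
    refine comm_of_fixed (k := k) (by rw [hk]; group) (hkc a) ?_
    refine hab.coprime_dvd_right (orderOf_dvd_of_pow_eq_one ?_)
    have h2 : k * b = a * b * a⁻¹ := by rw [hk]; group
    have h3 : (k * b) ^ orderOf b = k ^ orderOf b * b ^ orderOf b :=
      (show Commute k b from (hkc b).symm).mul_pow _
    rw [h2, conj_pow, pow_orderOf_eq_one, mul_one, mul_inv_cancel, mul_one] at h3
    exact h3.symm

theorem commute_of_mem_nilpotent {H : Subgroup G} (hH : Group.IsNilpotent H) {a b : G}
    (ha : a ∈ H) (hb : b ∈ H) (hab : (orderOf a).Coprime (orderOf b)) : a * b = b * a := by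
  have := commute_of_coprime_nilpotent H ⟨a, ha⟩ ⟨b, hb⟩
    (by simpa [Subgroup.orderOf_mk] using hab)
  exact congrArg Subtype.val this

theorem coprime_of_pGroup_elements {p q : ℕ} (hp : p.Prime) (hq : q.Prime) (hpq : p ≠ q) {a b : G}
    {m n : ℕ} (ha : orderOf a = p ^ m) (hb : orderOf b = q ^ n) :
    (orderOf a).Coprime (orderOf b) := by
  rw [ha, hb]
  exact ((Nat.coprime_primes hp hq).mpr hpq).pow m n

/-- A subgroup containing every prime-power part of `g` contains `g`. -/
theorem mem_of_primePower_mem [Finite G] {K : Subgroup G} {g : G}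
    (h : ∀ (p m : ℕ) (a : G), p.Prime → a ∈ zpowers g → orderOf a = p ^ m → a ∈ K) : g ∈ K := by
  have hidx : K.relIndex (zpowers g) = 1 := by
    refine Nat.eq_one_iff_not_exists_prime_dvd.mpr fun p hp hdvd => ?_
    haveI : Fact p.Prime := ⟨hp⟩
    obtain ⟨P⟩ := (inferInstance : Nonempty (Sylow p (zpowers g)))
    have hle : (P : Subgroup (zpowers g)) ≤ K.subgroupOf (zpowers g) := by
      intro a ha
      obtain ⟨m, hm⟩ := IsPGroup.iff_orderOf.mp P.isPGroup' ⟨a, ha⟩
      rw [Subgroup.orderOf_mk] at hm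
      exact mem_subgroupOf.mpr (h p m a hp a.2 (by rw [Subgroup.orderOf_coe]; exact hm))
    exact P.not_dvd_index (hdvd.trans (index_dvd_of_le hle))
  exact relIndex_eq_one.mp hidx (mem_zpowers g)

/-- A finite group in which prime-power elements for distinct primes commute is nilpotent. -/
theorem isNilpotent_of_commute [Finite G]
    (h : ∀ (p q m n : ℕ) (a b : G), p.Prime → q.Prime → p ≠ q → orderOf a = p ^ m →
      orderOf b = q ^ n → a * b = b * a) : Group.IsNilpotent G := by
  refine ((Group.isNilpotent_of_finite_tfae (G := G)).out 3 0 rfl rfl).mp fun p hp P => ?_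
  rw [← normalizer_eq_top_iff, eq_top_iff]
  intro g _
  refine mem_of_primePower_mem fun q n b hq _ hb => ?_
  by_cases hqp : q = p
  · subst hqp
    have hbp : IsPGroup q (zpowers b) := IsPGroup.of_card (n := n) (by rw [Nat.card_zpowers]; exact hb)
    obtain ⟨Q, hQ⟩ := hbp.exists_le_sylow
    -- all Sylow subgroups coincide, as conjugation by prime-to-`q` elements fixes `P`
    obtain ⟨c, rfl⟩ := MulAction.exists_smul_eq G P Q
    have key : ∀ x ∈ (P : Subgroup G), ∀ y : G, y * x * y⁻¹ ∈ (P : Subgroup G) := by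
      intro x hx y
      obtain ⟨u, hu, v, hv, huv⟩ : ∃ u ∈ (P : Subgroup G),
          ∃ v ∈ centralizer ((P : Subgroup G) : Set G), u * v = y := by
        have htop : (P : Subgroup G) ⊔ centralizer ((P : Subgroup G) : Set G) = ⊤ := by
          refine index_eq_one.mp (Nat.eq_one_iff_not_exists_prime_dvd.mpr fun r hr hdvd => ?_)
          haveI : Fact r.Prime := ⟨hr⟩
          by_cases hrq : r = q
          · subst hrq
            exact P.not_dvd_index (hdvd.trans (index_dvd_of_le le_sup_left))
          · obtain ⟨R⟩ := (inferInstance : Nonempty (Sylow r G))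
            have hR : (R : Subgroup G) ≤ centralizer ((P : Subgroup G) : Set G) := by
              intro z hz
              refine mem_centralizer_iff.mpr fun w hw => ?_
              obtain ⟨i, hi⟩ := IsPGroup.iff_orderOf.mp R.isPGroup' ⟨z, hz⟩
              obtain ⟨j, hj⟩ := IsPGroup.iff_orderOf.mp P.isPGroup' ⟨w, hw⟩
              rw [Subgroup.orderOf_mk] at hi hj
              exact h q r j i w z hq hr (Ne.symm hrq) hj hi
            exact R.not_dvd_index (hdvd.trans (index_dvd_of_le (hR.trans le_sup_right)))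
        have hy : y ∈ (P : Subgroup G) ⊔ centralizer ((P : Subgroup G) : Set G) := by
          rw [htop]; exact mem_top y
        rw [← SetLike.mem_coe, coe_mul_of_right_le_normalizer_left _ _
          (fun z hz => centralizer_le_normalizer _ hz)] at hy
        exact Set.mem_mul.mp hy
      rw [← huv]
      have : u * v * x * (u * v)⁻¹ = u * (v * x * v⁻¹) * u⁻¹ := by group
      rw [this, ← mem_centralizer_iff.mp hv x hx, mul_inv_cancel_right]
      exact mul_mem (mul_mem hu hx) (inv_mem hu)
    have hbP : b ∈ (c • P : Sylow q G) := hQ (mem_zpowers b)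
    rw [mem_normalizer_iff]
    intro x
    refine ⟨fun hx => key x hx b, fun hx => ?_⟩
    have := key _ hx b⁻¹
    simpa [mul_assoc] using this
  · rw [mem_normalizer_iff]
    intro x
    constructor
    · intro hx
      obtain ⟨j, hj⟩ := IsPGroup.iff_orderOf.mp P.isPGroup' ⟨x, hx⟩
      rw [Subgroup.orderOf_mk] at hj
      rwa [h q p n j b x hq hp.out hqp hb hj, mul_inv_cancel_right]
    · intro hx
      obtain ⟨j, hj⟩ := IsPGroup.iff_orderOf.mp P.isPGroup' ⟨_, hx⟩
      rw [Subgroup.orderOf_mk] at hj
      have hcomm := h q p n j b (b * x * b⁻¹) hq hp.out hqp hb hj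
      have : x = b * x * b⁻¹ := by
        have h2 : b * x * b⁻¹ = x := by
          have h3 : b * (b * x * b⁻¹) = b * x := by rw [hcomm]; group
          exact mul_left_cancel h3
        exact h2.symm
      rw [this]; exact hx

/-! ### CN-groups -/

theorem isNilpotent_centralizer (hCN : Cfsg.IsCNGroup G) {z : G} (hz : z ≠ 1) :
    Group.IsNilpotent (centralizer ({z} : Set G)) := hCN z hz

/-- In a CN-group, coprime-order elements with a common non-identity centralized element commute. -/
theorem commute_of_common (hCN : Cfsg.IsCNGroup G) {z a b : G} (hz : z ≠ 1) (ha : a * z = z * a)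
    (hb : b * z = z * b) (hab : (orderOf a).Coprime (orderOf b)) : a * b = b * a :=
  commute_of_mem_nilpotent (hCN z hz) (mem_centralizer_singleton_iff.mpr ha)
    (mem_centralizer_singleton_iff.mpr hb) hab

theorem isCNGroup_subgroup [Finite G] (hCN : Cfsg.IsCNGroup G) (K : Subgroup G) :
    Cfsg.IsCNGroup K := by
  intro z hz
  refine isNilpotent_of_commute fun p q m n a b hp hq hpq ha hb => ?_
  refine Subtype.ext (Subtype.ext ?_)
  refine commute_of_common hCN (z := (z : G)) (fun he => hz (Subtype.ext he)) ?_ ?_ ?_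
  · exact congrArg Subtype.val (mem_centralizer_singleton_iff.mp a.2)
  · exact congrArg Subtype.val (mem_centralizer_singleton_iff.mp b.2)
  · refine coprime_of_pGroup_elements hp hq hpq (m := m) (n := n) ?_ ?_
    · rw [Subgroup.orderOf_coe, Subgroup.orderOf_coe]; exact ha
    · rw [Subgroup.orderOf_coe, Subgroup.orderOf_coe]; exact hb

theorem isCNGroup_congr [Finite G] {H : Type u} [Group H] (e : G ≃* H) (hCN : Cfsg.IsCNGroup G) :
    Cfsg.IsCNGroup H := by
  intro z hz
  haveI : Finite H := Finite.of_equiv G e.toEquiv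
  refine isNilpotent_of_commute fun p q m n a b hp hq hpq ha hb => ?_
  refine Subtype.ext (e.symm.injective ?_)
  have ha' := congrArg e.symm (mem_centralizer_singleton_iff.mp a.2)
  have hb' := congrArg e.symm (mem_centralizer_singleton_iff.mp b.2)
  simp only [map_mul] at ha' hb'
  simp only [Subgroup.coe_mul, map_mul]
  refine commute_of_common hCN (z := e.symm z) (fun he => hz ?_) ha' hb' ?_
  · simpa using congrArg e he
  · refine coprime_of_pGroup_elements hp hq hpq (m := m) (n := n) ?_ ?_
    · rw [MulEquiv.orderOf_eq, Subgroup.orderOf_coe]; exact ha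
    · rw [MulEquiv.orderOf_eq, Subgroup.orderOf_coe]; exact hb

/-- An element of prime-power order acting on a `p`-group fixes a point of every invariant set of
size prime to it; here: a fixed element in a coset. -/
theorem exists_fixed_in_coset [Finite G] {r m : ℕ} [Fact r.Prime] {n x : G}
    (hn : orderOf n = r ^ m) {H : Subgroup G} [H.Normal] (hx : n * x * n⁻¹ * x⁻¹ ∈ H)
    (hH : ¬ r ∣ Nat.card H) : ∃ h ∈ H, n * (h * x) * n⁻¹ = h * x := by
  let S : Set G := {y | y * x⁻¹ ∈ H}
  have hS : Nat.card S = Nat.card H :=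
    Nat.card_congr
      { toFun := fun y => ⟨(y : G) * x⁻¹, y.2⟩
        invFun := fun h => ⟨(h : G) * x, by simp [S]⟩
        left_inv := fun y => Subtype.ext (by simp)
        right_inv := fun h => Subtype.ext (by simp) }
  have hstab : ∀ (k : zpowers n) (y : G), y * x⁻¹ ∈ H → (k : G) * y * (k : G)⁻¹ * x⁻¹ ∈ H := by
    rintro ⟨k, hk⟩ y hy
    let f : G →* G ⧸ H := QuotientGroup.mk' H
    have h1 : Commute (f n) (f x) := by
      have := (QuotientGroup.eq_one_iff _).mpr hx
      change f n * f x = f x * f n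
      have h2 : f (n * x * n⁻¹ * x⁻¹) = 1 := this
      simp only [map_mul, map_inv] at h2
      rw [mul_inv_eq_one, mul_inv_eq_iff_eq_mul] at h2
      exact h2
    obtain ⟨i, rfl⟩ := mem_zpowers_iff.mp hk
    rw [← QuotientGroup.eq_one_iff] at hy ⊢
    change f (y * x⁻¹) = 1 at hy
    change f (n ^ i * y * (n ^ i)⁻¹ * x⁻¹) = 1
    simp only [map_mul, map_inv, map_zpow] at hy ⊢
    rw [mul_inv_eq_one] at hy
    rw [hy, (h1.zpow_left i).eq, mul_inv_cancel_right, mul_inv_cancel]
  letI : MulAction (zpowers n) S :=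
    { smul := fun k y => ⟨(k : G) * y * (k : G)⁻¹, hstab k y y.2⟩
      one_smul := fun y => Subtype.ext (by change (1 : G) * (y : G) * (1 : G)⁻¹ = y; simp)
      mul_smul := fun a b y => Subtype.ext (by
        change ((a : G) * b) * y * ((a : G) * b)⁻¹ = (a : G) * ((b : G) * y * (b : G)⁻¹) * (a : G)⁻¹
        group) }
  have hzp : IsPGroup r (zpowers n) := IsPGroup.of_card (n := m) (by rw [Nat.card_zpowers]; exact hn)
  obtain ⟨⟨y, hy⟩, hfix⟩ := hzp.nonempty_fixed_point_of_prime_not_dvd_card S (by rwa [hS])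
  have h2 := congrArg Subtype.val (hfix ⟨n, mem_zpowers n⟩)
  refine ⟨y * x⁻¹, hy, ?_⟩
  rw [inv_mul_cancel_right]
  exact h2

/-- A `p`-element normalizing a nontrivial finite `p`-group centralizes a non-identity element. -/
theorem exists_fixed_of_pElement [Finite G] {p m : ℕ} [Fact p.Prime] {y : G}
    (hy : orderOf y = p ^ m) {H : Subgroup G} [H.Normal] (hH : IsPGroup p H) (hne : H ≠ ⊥) :
    ∃ z ∈ H, z ≠ 1 ∧ y * z = z * y := by
  letI : MulAction (zpowers y) H :=
    { smul := fun k h => ⟨(k : G) * h * (k : G)⁻¹, Normal.conj_mem inferInstance _ h.2 _⟩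
      one_smul := fun h => Subtype.ext (by change (1 : G) * (h : G) * (1 : G)⁻¹ = h; simp)
      mul_smul := fun a b h => Subtype.ext (by
        change ((a : G) * b) * h * ((a : G) * b)⁻¹ = (a : G) * ((b : G) * h * (b : G)⁻¹) * (a : G)⁻¹
        group) }
  have hzp : IsPGroup p (zpowers y) := IsPGroup.of_card (n := m) (by rw [Nat.card_zpowers]; exact hy)
  haveI : Nontrivial H := (nontrivial_iff_ne_bot H).mpr hne
  obtain ⟨n, hn, hcard⟩ := hH.nontrivial_iff_card.mp this
  have h1 : (1 : H) ∈ MulAction.fixedPoints (zpowers y) H := fun k =>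
    Subtype.ext (by change (k : G) * 1 * (k : G)⁻¹ = 1; simp)
  obtain ⟨z, hz, hz1⟩ := hzp.exists_fixed_point_of_prime_dvd_card_of_fixed_point H
    (by rw [hcard]; exact dvd_pow_self p hn.ne') h1
  refine ⟨z, z.2, fun he => hz1.symm (Subtype.ext he), ?_⟩
  have h2 := congrArg Subtype.val (hz ⟨y, mem_zpowers y⟩)
  exact mul_inv_eq_iff_eq_mul.mp h2

/-- Quotient of a CN-group by an abelian normal `p`-subgroup is a CN-group. -/
theorem isCNGroup_quotient_abelian [Finite G] (hCN : Cfsg.IsCNGroup G) {p : ℕ} [hp : Fact p.Prime]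
    (H : Subgroup G) [H.Normal] (hHp : IsPGroup p H) (hHc : IsMulCommutative H) :
    Cfsg.IsCNGroup (G ⧸ H) := by
  classical
  rcases eq_or_ne H ⊥ with hbot | hbot
  · subst hbot
    exact isCNGroup_congr QuotientGroup.quotientBot.symm hCN
  intro w hw
  -- reduce to an element of prime order
  obtain ⟨q, hq, hqd⟩ := Nat.exists_prime_and_dvd (fun h => hw (orderOf_eq_one_iff.mp h))
  have hwq : orderOf (w ^ (orderOf w / q)) = q :=
    orderOf_pow_orderOf_div (orderOf_pos w).ne' hqd
  refine isNilpotent_mono (K := centralizer ({w ^ (orderOf w / q)} : Set (G ⧸ H))) ?_ ?_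
  · intro c hc
    rw [mem_centralizer_singleton_iff] at hc ⊢
    exact ((show Commute c w from hc).pow_right _).eq
  generalize w ^ (orderOf w / q) = v at hwq
  haveI : Fact q.Prime := ⟨hq⟩
  let f : G →* G ⧸ H := QuotientGroup.mk' H
  have hf : ∀ g : G, f g = 1 ↔ g ∈ H := fun g => QuotientGroup.eq_one_iff g
  obtain ⟨x₀, hx₀⟩ := QuotientGroup.mk'_surjective H v
  -- a preimage of `v` of prime-power order
  obtain ⟨x, hxv, hxpow⟩ : ∃ x : G, f x = v ∧ ∃ j, orderOf x = q ^ j := by
    have hdvd : q ∣ orderOf x₀ := hwq ▸ hx₀ ▸ orderOf_map_dvd f x₀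
    obtain ⟨j, r, hr, hjr⟩ := Nat.exists_eq_pow_mul_and_not_dvd (orderOf_pos x₀).ne' q hq.ne_one
    obtain ⟨e, he⟩ := exists_pow_eq_self_of_coprime (x := v) (n := r)
      (by rw [hwq]; exact (hq.coprime_iff_not_dvd.mpr hr).symm)
    refine ⟨(x₀ ^ r) ^ e, ?_, ?_⟩
    · rw [map_pow, map_pow, show f x₀ = v from hx₀, he]
    · have : orderOf ((x₀ ^ r) ^ e) ∣ q ^ j := orderOf_dvd_of_pow_eq_one (by
        rw [← pow_mul, ← pow_mul, show r * (e * q ^ j) = (q ^ j * r) * e by ring, ← hjr, pow_mul,
          pow_orderOf_eq_one, one_pow])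
      obtain ⟨k, _, hk⟩ := (Nat.dvd_prime_pow hq).mp this
      exact ⟨k, hk⟩
  obtain ⟨j, hj⟩ := hxpow
  have hxH : x ∉ H := by
    intro h
    have := (hf x).mpr h
    rw [hxv] at this
    rw [this, orderOf_one] at hwq
    exact hq.ne_one hwq.symm
  let N : Subgroup G := (centralizer ({v} : Set (G ⧸ H))).comap f
  have hN : ∀ {a : G}, a ∈ N ↔ f a * v = v * f a := fun {a} => mem_centralizer_singleton_iff
  suffices hnil : Group.IsNilpotent (N.map f : Subgroup (G ⧸ H)) by
    rwa [map_comap_eq_self_of_surjective (QuotientGroup.mk'_surjective H)] at hnil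
  by_cases hqp : q = p
  · subst hqp
    haveI : Group.IsNilpotent N := by
      -- prime-to-`q` prime-power elements of `N` centralize `H`
      have hcent : ∀ (r m : ℕ) (a : G), r.Prime → r ≠ q → a ∈ N → orderOf a = r ^ m →
          ∀ h ∈ H, a * h = h * a := by
        intro r m a hr hrq ha ho h hh
        haveI : Fact r.Prime := ⟨hr⟩
        obtain ⟨l, hl⟩ := IsPGroup.iff_card.mp hHp
        have hrH : ¬ r ∣ Nat.card H := by
          rw [hl]
          exact fun h => hrq ((Nat.prime_dvd_prime_iff_eq hr hq).mp (hr.dvd_of_dvd_pow h))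
        obtain ⟨h₀, hh₀, hfix⟩ := exists_fixed_in_coset ho (x := x) (H := H) (by
          rw [← hf]
          simp only [map_mul, map_inv, hxv]
          rw [hN.mp ha, mul_inv_cancel_right, mul_inv_cancel]) hrH
        obtain ⟨k, hk⟩ : ∃ k, orderOf (h₀ * x) = q ^ k := by
          have hfx : f (h₀ * x) = v := by rw [map_mul, (hf h₀).mpr hh₀, one_mul, hxv]
          have hdvd : orderOf (h₀ * x) ∣ q * q ^ l := by
            refine orderOf_dvd_of_pow_eq_one ?_
            have h1 : (h₀ * x) ^ q ∈ H := by
              rw [← hf, map_pow, hfx, ← hwq, pow_orderOf_eq_one]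
            rw [pow_mul]
            exact orderOf_dvd_iff_pow_eq_one.mp (hl ▸ orderOf_dvd_natCard H h1)
          rw [← pow_succ'] at hdvd
          obtain ⟨k, _, hk⟩ := (Nat.dvd_prime_pow hq).mp hdvd
          exact ⟨k, hk⟩
        obtain ⟨z, hzH, hz1, hzc⟩ := exists_fixed_of_pElement hk hHp hbot
        have hx1 : h₀ * x ≠ 1 := fun he => hxH ((mul_mem_cancel_left hh₀).mp (he ▸ one_mem H))
        obtain ⟨i, hi⟩ := IsPGroup.iff_orderOf.mp hHp ⟨z, hzH⟩
        rw [Subgroup.orderOf_mk] at hi
        have haz : a * z = z * a := commute_of_common hCN hx1 (mul_inv_eq_iff_eq_mul.mp hfix) hzc.symm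
          (coprime_of_pGroup_elements hr hq hrq ho hi)
        obtain ⟨i', hi'⟩ := IsPGroup.iff_orderOf.mp hHp ⟨h, hh⟩
        rw [Subgroup.orderOf_mk] at hi'
        exact commute_of_common hCN hz1 haz (setLike_mul_comm hh hzH)
          (coprime_of_pGroup_elements hr hq hrq ho hi')
      refine isNilpotent_of_commute fun r s m n a b hr hs hrs ha hb => Subtype.ext ?_
      rw [← Subgroup.orderOf_coe] at ha hb
      simp only [Subgroup.coe_mul]
      have hcop := coprime_of_pGroup_elements hr hs hrs ha hb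
      obtain ⟨⟨z₀, hz₀⟩, hz₀1'⟩ := ne_bot_iff_exists_ne_one.mp hbot
      have hz₀1 : z₀ ≠ 1 := fun he => hz₀1' (Subtype.ext he)
      by_cases hr' : r = q
      · subst hr'
        obtain ⟨z, hzH, hz1, hzc⟩ := exists_fixed_of_pElement ha hHp hbot
        exact commute_of_common hCN hz1 hzc (hcent s n b hs (Ne.symm hrs) b.2 hb z hzH) hcop
      by_cases hs' : s = q
      · subst hs'
        obtain ⟨z, hzH, hz1, hzc⟩ := exists_fixed_of_pElement hb hHp hbot
        exact commute_of_common hCN hz1 (hcent r m a hr hr' a.2 ha z hzH) hzc hcop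
      exact commute_of_common hCN hz₀1 (hcent r m a hr hr' a.2 ha z₀ hz₀)
        (hcent s n b hs hs' b.2 hb z₀ hz₀) hcop
    exact Group.nilpotent_of_surjective (f.subgroupMap N) (f.subgroupMap_surjective N)
  · -- Frattini argument on `H⟨x⟩`
    have hsurj : ∀ a ∈ N, ∃ h ∈ H, h * a ∈ centralizer ({x} : Set G) := by
      intro a ha
      obtain ⟨l, hl⟩ := IsPGroup.iff_card.mp hHp
      have hxq : x ^ q ∈ H := by rw [← hf, map_pow, hxv, ← hwq, pow_orderOf_eq_one]
      have hxq1 : orderOf x = q := by
        have h1 : orderOf (x ^ q) = 1 := by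
          refine Nat.eq_one_of_dvd_coprimes (((Nat.coprime_primes hq hp.out).mpr hqp).pow j l) ?_
            (hl ▸ orderOf_dvd_natCard H hxq)
          exact hj ▸ orderOf_pow_dvd q
        rw [orderOf_eq_one_iff] at h1
        exact orderOf_eq_prime h1 (fun he => hxH (he ▸ one_mem H))
      -- the cyclic group `⟨x⟩` is a complement of `H` in `L`
      let L : Subgroup G := (zpowers v).comap f
      have hLcard : Nat.card L = q * p ^ l := by
        have hle : H ≤ L := fun h hh => by
          rw [mem_comap, (hf h).mpr hh]; exact one_mem _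
        have h1 : L.map f = zpowers v :=
          map_comap_eq_self_of_surjective (QuotientGroup.mk'_surjective H) _
        have h2 := (f.comp L.subtype).ker.card_mul_index
        rw [index_ker, mul_comm, MonoidHom.range_comp, range_subtype, h1, Nat.card_zpowers, hwq] at h2
        rw [← h2, ← hl]
        congr 1
        exact Nat.card_congr
          { toFun := fun y => ⟨(y.1 : G), (hf _).mp y.2⟩
            invFun := fun y => ⟨⟨y, hle y.2⟩, (hf _).mpr y.2⟩
            left_inv := fun y => rfl
            right_inv := fun y => rfl }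
      have hxL : x ∈ L := by rw [mem_comap, hxv]; exact mem_zpowers v
      have hyL : a * x * a⁻¹ ∈ L := by
        rw [mem_comap]
        simp only [map_mul, map_inv, hxv]
        rw [hN.mp ha, mul_inv_cancel_right]
        exact mem_zpowers v
      have hndvd : ¬ q ∣ p ^ l := fun h =>
        hqp ((Nat.prime_dvd_prime_iff_eq hq hp.out).mp (hq.dvd_of_dvd_pow h))
      have hSyl : ∀ y : L, orderOf (y : G) = q → ∃ P : Sylow q L, (P : Subgroup L) = zpowers y := by
        intro y hy
        refine ⟨(IsPGroup.of_card (G := ↥(zpowers y)) (p := q) (n := 1) ?_).toSylow ?_, rfl⟩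
        · rw [Nat.card_zpowers, ← Subgroup.orderOf_coe, hy, pow_one]
        · have h1 := (zpowers y).card_mul_index
          rw [Nat.card_zpowers, ← Subgroup.orderOf_coe, hy, hLcard] at h1
          rw [Nat.eq_of_mul_eq_mul_left hq.pos h1]
          exact hndvd
      obtain ⟨P, hP⟩ := hSyl ⟨x, hxL⟩ hxq1
      obtain ⟨Q, hQ⟩ := hSyl ⟨a * x * a⁻¹, hyL⟩ (by
        change orderOf (MulAut.conj a x) = q
        rw [MulEquiv.orderOf_eq, hxq1])
      obtain ⟨c, hc⟩ := MulAction.exists_smul_eq L Q P
      have hmem : c * ⟨a * x * a⁻¹, hyL⟩ * c⁻¹ ∈ zpowers (⟨x, hxL⟩ : L) := by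
        rw [← hP, ← hc, Sylow.coe_subgroup_smul]
        exact ⟨⟨a * x * a⁻¹, hyL⟩, hQ ▸ mem_zpowers _, rfl⟩
      obtain ⟨i, hi⟩ := mem_zpowers_iff.mp hmem
      have hi' : x ^ i = (c : G) * (a * x * a⁻¹) * (c : G)⁻¹ := by
        simpa using congrArg Subtype.val hi
      obtain ⟨e, he⟩ := mem_zpowers_iff.mp (show f (c : G) ∈ zpowers v from c.2)
      have hfc : f (c : G) * v = v * f (c : G) := by
        rw [← he]; exact (Commute.zpow_self v e).eq
      have hvi : v ^ i = v := by
        have h := congrArg f hi'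
        simp only [map_zpow, map_mul, map_inv, hxv] at h
        rw [hN.mp ha, mul_inv_cancel_right, hfc, mul_inv_cancel_right] at h
        exact h
      have hxi : x ^ i = x := by
        nth_rewrite 2 [← zpow_one x]
        rw [zpow_eq_zpow_iff_modEq, hxq1]
        have h2 : v ^ i = v ^ (1 : ℤ) := by rw [hvi, zpow_one]
        rwa [zpow_eq_zpow_iff_modEq, hwq] at h2
      refine ⟨(x ^ e)⁻¹ * (c : G), ?_, ?_⟩
      · rw [← hf, map_mul, map_inv, map_zpow, hxv, he, inv_mul_cancel]
      · rw [mem_centralizer_singleton_iff]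
        rw [hxi] at hi'
        have h3 : (c : G) * a * x = x * ((c : G) * a) := by
          rw [mul_assoc, eq_comm]
          conv_lhs => rw [hi']
          group
        calc (x ^ e)⁻¹ * (c : G) * a * x = (x ^ e)⁻¹ * ((c : G) * a * x) := by group
          _ = (x ^ e)⁻¹ * x * ((c : G) * a) := by rw [h3]; group
          _ = x * ((x ^ e)⁻¹ * (c : G) * a) := by
            rw [(Commute.zpow_self x e).inv_left.eq]; group
    have heq : N.map f ≤ (centralizer ({x} : Set G)).map f := by
      rintro _ ⟨a, ha, rfl⟩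
      obtain ⟨h, hh, hc⟩ := hsurj a ha
      exact ⟨h * a, hc, by rw [map_mul, (hf h).mpr hh, one_mul]⟩
    haveI := hCN x (fun he => hxH (he ▸ one_mem H))
    haveI := Group.nilpotent_of_surjective (f.subgroupMap (centralizer ({x} : Set G)))
      (f.subgroupMap_surjective _)
    exact isNilpotent_mono heq inferInstance

end Cfsg.Agent.Lib.CNGroup.Basic
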