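import Mathlib
import Cfsg.Agent.Lib.CNGroup.Basic

/-! Maximal nilpotent subgroups of CN-groups (Gorenstein 14.2). -/

set_option autoImplicit false

namespace Cfsg.Agent.Lib.CNGroup.MaxNilpotent

open Subgroup
open Cfsg.Agent.Lib.CNGroup.Basic Cfsg.Agent.Lib.OddLocal.CoprimeFix

universe u

variable {G : Type u} [Group G]

/-- `H` is a maximal nilpotent subgroup. -/
def IsMaxNilpotent (H : Subgroup G) : Prop :=
  Group.IsNilpotent H ∧ ∀ L : Subgroup G, Group.IsNilpotent L → H ≤ L → L = H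

theorem exists_maxNilpotent_ge [Finite G] {K : Subgroup G} (hK : Group.IsNilpotent K) :
    ∃ H : Subgroup G, IsMaxNilpotent H ∧ K ≤ H := by
  obtain ⟨H, hH, hmax⟩ := Set.Finite.exists_maximalFor (id : Subgroup G → Subgroup G)
    {H | Group.IsNilpotent H ∧ K ≤ H} (Set.toFinite _) ⟨K, hK, le_rfl⟩
  exact ⟨H, ⟨hH.1, fun L hL hle => le_antisymm (hmax ⟨hL, hH.2.trans hle⟩ hle) hle⟩, hH.2⟩

theorem mem_conj_map {H : Subgroup G} {g x : G} :
    x ∈ H.map (MulAut.conj g).toMonoidHom ↔ g⁻¹ * x * g ∈ H := by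
  rw [Subgroup.mem_map]
  constructor
  · rintro ⟨y, hy, rfl⟩
    simp [mul_assoc, hy]
  · intro h
    exact ⟨_, h, by simp [mul_assoc]⟩

/-- In a nilpotent subgroup, for every prime divisor of the order some element of that order
is central. -/
theorem exists_central_orderOf [Finite G] {H : Subgroup G} (hH : Group.IsNilpotent H) {p : ℕ}
    (hp : p.Prime) (hd : p ∣ Nat.card H) :
    ∃ z ∈ H, orderOf z = p ∧ ∀ h ∈ H, h * z = z * h := by
  haveI : Fact p.Prime := ⟨hp⟩
  obtain ⟨P⟩ := (inferInstance : Nonempty (Sylow p H))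
  have hne : (P : Subgroup H) ≠ ⊥ := P.ne_bot_of_dvd_card hd
  haveI : Nontrivial (P : Subgroup H) := (nontrivial_iff_ne_bot _).mpr hne
  have hc := P.isPGroup'.center_nontrivial
  obtain ⟨n, hn, hcard⟩ := ((P.isPGroup').to_subgroup (center (P : Subgroup H))).nontrivial_iff_card.mp hc
  obtain ⟨w, hw⟩ := exists_prime_orderOf_dvd_card' (G := center (P : Subgroup H)) p
    (by rw [hcard]; exact dvd_pow_self p hn.ne')
  refine ⟨((w : (P : Subgroup H)) : H), SetLike.coe_mem _, ?_, ?_⟩
  · rw [Subgroup.orderOf_coe, Subgroup.orderOf_coe, Subgroup.orderOf_coe]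
    exact hw
  · intro h hh
    obtain ⟨z, hz⟩ : ∃ z : H, z = ((w : (P : Subgroup H)) : H) := ⟨_, rfl⟩
    have hmem : (⟨h, hh⟩ : H) ∈ centralizer ({z} : Set H) := by
      refine mem_of_primePower_mem fun q m a hq _ ha => ?_
      rw [mem_centralizer_singleton_iff]
      by_cases hqp : q = p
      · subst hqp
        have haP : a ∈ (P : Subgroup H) := by
          haveI := hH
          have hle : zpowers a ≤ (P : Subgroup H) := by
            have hsup := (IsPGroup.of_card (G := ↥(zpowers a)) (p := q) (n := m)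
              (by rw [Nat.card_zpowers]; exact ha)).to_sup_of_normal_right P.isPGroup'
            exact le_sup_left.trans (P.3 hsup le_sup_right).le
          exact hle (mem_zpowers a)
        rw [hz]
        exact congrArg Subtype.val (mem_center_iff.mp w.2 ⟨a, haP⟩)
      · haveI := hH
        refine commute_of_coprime_nilpotent H a z ?_
        rw [hz, Subgroup.orderOf_coe, Subgroup.orderOf_coe, hw, ha]
        exact ((Nat.coprime_primes hq hp).mpr hqp).pow_left m
    rw [mem_centralizer_singleton_iff, hz] at hmem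
    exact congrArg Subtype.val hmem

theorem centralizer_eq_of_central (hCN : Cfsg.IsCNGroup G) {H : Subgroup G} (hH : IsMaxNilpotent H)
    {z : G} (hz1 : z ≠ 1) (hc : ∀ h ∈ H, h * z = z * h) : centralizer ({z} : Set G) = H :=
  hH.2 _ (hCN z hz1) fun h hh => mem_centralizer_singleton_iff.mpr (hc h hh)

/-- The `p`-part of a maximal nilpotent subgroup is a Sylow `p`-subgroup of `G`. -/
theorem exists_sylow_le [Finite G] (hCN : Cfsg.IsCNGroup G) {H : Subgroup G} (hH : IsMaxNilpotent H)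
    {p : ℕ} [hp : Fact p.Prime] (hd : p ∣ Nat.card H) : ∃ S : Sylow p G, (S : Subgroup G) ≤ H := by
  obtain ⟨P⟩ := (inferInstance : Nonempty (Sylow p H))
  obtain ⟨S, hS⟩ := (P.isPGroup'.map H.subtype).exists_le_sylow
  refine ⟨S, ?_⟩
  by_cases hpg : IsPGroup p H
  · obtain ⟨S', hS'⟩ := hpg.exists_le_sylow
    have hS'H : (S' : Subgroup G) = H := hH.2 _ S'.isPGroup'.isNilpotent hS'
    have hPH : (P : Subgroup H) = ⊤ := (P.3 (hpg.to_subgroup ⊤) le_top).symm
    have hHS : H ≤ (S : Subgroup G) := by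
      intro h hh
      exact hS ⟨⟨h, hh⟩, by rw [hPH]; exact mem_top _, rfl⟩
    exact (hH.2 _ S.isPGroup'.isNilpotent hHS).le
  · obtain ⟨q, hq, hqd, hqp⟩ : ∃ q, q.Prime ∧ q ∣ Nat.card H ∧ q ≠ p := by
      by_contra hno
      apply hpg
      refine IsPGroup.of_card (n := (Nat.card H).factorization p)
        (Nat.eq_pow_of_factorization_eq_single Nat.card_pos.ne' ?_)
      ext r
      rw [Finsupp.single_apply]
      split_ifs with hr
      · rw [hr]
      · by_contra hne
        have hr' := Nat.support_factorization (Nat.card H) ▸ Finsupp.mem_support_iff.mpr hne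
        exact hno ⟨r, Nat.prime_of_mem_primeFactors hr', Nat.dvd_of_mem_primeFactors hr', Ne.symm hr⟩
    obtain ⟨x, hxH, hxo, hxc⟩ := exists_central_orderOf hH.1 hp.out hd
    obtain ⟨y, hyH, hyo, hyc⟩ := exists_central_orderOf hH.1 hq hqd
    have hx1 : x ≠ 1 := fun h => hp.out.ne_one (by rw [← hxo, h, orderOf_one])
    have hy1 : y ≠ 1 := fun h => hq.ne_one (by rw [← hyo, h, orderOf_one])
    have hxS : x ∈ (S : Subgroup G) := by
      haveI := hH.1
      refine hS ⟨⟨x, hxH⟩, ?_, rfl⟩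
      have hsup := (IsPGroup.of_card (G := ↥(zpowers (⟨x, hxH⟩ : H))) (p := p) (n := 1)
        (by rw [Nat.card_zpowers, Subgroup.orderOf_mk, hxo, pow_one])).to_sup_of_normal_right P.isPGroup'
      exact (P.3 hsup le_sup_right).le (le_sup_left (a := zpowers (⟨x, hxH⟩ : H)) (mem_zpowers _))
    have hne : (S : Subgroup G) ≠ ⊥ := fun h => hx1 (mem_bot.mp (h ▸ hxS))
    haveI : Nontrivial (S : Subgroup G) := (nontrivial_iff_ne_bot _).mpr hne
    haveI := S.isPGroup'.center_nontrivial
    obtain ⟨⟨z, hzc⟩, hz1⟩ := exists_ne (α := ↥(center (S : Subgroup G))) 1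
    have hzS : ∀ s ∈ (S : Subgroup G), s * z = z * s := fun s hs =>
      congrArg Subtype.val (mem_center_iff.mp hzc ⟨s, hs⟩)
    have hz1' : (z : G) ≠ 1 := fun h => hz1 (Subtype.ext (Subtype.ext h))
    have hzH : (z : G) ∈ H := by
      rw [← centralizer_eq_of_central hCN hH hx1 hxc, mem_centralizer_singleton_iff]
      exact (hzS x hxS).symm
    obtain ⟨i, hi⟩ := IsPGroup.iff_orderOf.mp S.isPGroup' z
    rw [← Subgroup.orderOf_coe] at hi
    intro s hs
    obtain ⟨j, hj⟩ := IsPGroup.iff_orderOf.mp S.isPGroup' ⟨s, hs⟩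
    rw [Subgroup.orderOf_mk] at hj
    have hzy : (z : G) * y = y * z := hyc _ hzH
    rw [← centralizer_eq_of_central hCN hH hy1 hyc, mem_centralizer_singleton_iff]
    exact commute_of_common hCN hz1' (hzS s hs) hzy.symm
      (coprime_of_pGroup_elements (m := j) (n := 1) hp.out hq (Ne.symm hqp) hj (by rw [hyo, pow_one]))

theorem coprime_index [Finite G] (hCN : Cfsg.IsCNGroup G) {H : Subgroup G} (hH : IsMaxNilpotent H) :
    (Nat.card H).Coprime H.index := by
  refine Nat.coprime_of_dvd fun p hp hd hi => ?_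
  haveI : Fact p.Prime := ⟨hp⟩
  obtain ⟨S, hS⟩ := exists_sylow_le hCN hH hd
  exact S.not_dvd_index (hi.trans (index_dvd_of_le hS))

/-- A Sylow `q`-subgroup of `G` inside a nilpotent subgroup contains all its `q`-elements. -/
theorem qElement_mem_sylow [Finite G] {q n : ℕ} [Fact q.Prime] {K : Subgroup G}
    (hK : Group.IsNilpotent K) {S : Sylow q G} (hS : (S : Subgroup G) ≤ K) {a : G} (ha : a ∈ K)
    (hao : orderOf a = q ^ n) : a ∈ (S : Subgroup G) := by
  haveI := hK
  obtain ⟨P, hP⟩ : ∃ P : Sylow q K, (P : Subgroup K) = (S : Subgroup G).subgroupOf K :=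
    ⟨S.subtype hS, rfl⟩
  have hsup := (IsPGroup.of_card (G := ↥(zpowers (⟨a, ha⟩ : K))) (p := q) (n := n)
    (by rw [Nat.card_zpowers, Subgroup.orderOf_mk, hao])).to_sup_of_normal_right P.isPGroup'
  have := (P.3 hsup le_sup_right).le (le_sup_left (a := zpowers (⟨a, ha⟩ : K)) (mem_zpowers _))
  rw [SetLike.mem_coe.symm, show ((P : Subgroup K) : Set K) = ((S : Subgroup G).subgroupOf K) from by rw [hP]] at this
  exact this

/-- If `q` divides `|H|`, a `q`-element centralizing a non-identity `p`-element of `H`, `p ≠ q`,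
lies in `H`. -/
theorem qElement_mem [Finite G] (hCN : Cfsg.IsCNGroup G) {H : Subgroup G} (hH : IsMaxNilpotent H)
    {p q m n : ℕ} (hp : p.Prime) (hq : q.Prime) (hpq : q ≠ p) (hqd : q ∣ Nat.card H) {x a : G}
    (hx : x ∈ H) (hx1 : x ≠ 1) (hxo : orderOf x = p ^ m) (hao : orderOf a = q ^ n)
    (hax : a * x = x * a) : a ∈ H := by
  haveI : Fact q.Prime := ⟨hq⟩
  obtain ⟨S, hS⟩ := exists_sylow_le hCN hH hqd
  have hSC : (S : Subgroup G) ≤ centralizer ({x} : Set G) := fun s hs => by
    rw [mem_centralizer_singleton_iff]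
    obtain ⟨i, hi⟩ := IsPGroup.iff_orderOf.mp S.isPGroup' ⟨s, hs⟩
    rw [Subgroup.orderOf_mk] at hi
    exact commute_of_mem_nilpotent hH.1 (hS hs) hx (coprime_of_pGroup_elements hq hp hpq hi hxo)
  exact hS (qElement_mem_sylow (hCN x hx1) hSC (mem_centralizer_singleton_iff.mpr hax) hao)

theorem isMaxNilpotent_conj {H : Subgroup G} (hH : IsMaxNilpotent H) (g : G) :
    IsMaxNilpotent (H.map (MulAut.conj g).toMonoidHom) := by
  haveI := hH.1
  refine ⟨Group.nilpotent_of_mulEquiv ((MulAut.conj g).subgroupMap H), fun L hL hle => ?_⟩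
  haveI := hL
  have h2 := hH.2 (L.map (MulAut.conj g⁻¹).toMonoidHom)
    (Group.nilpotent_of_mulEquiv ((MulAut.conj g⁻¹).subgroupMap L))
    (fun h hh => mem_conj_map.mpr (hle (mem_conj_map.mpr (by simpa [mul_assoc] using hh))))
  ext y
  rw [mem_conj_map, ← h2, mem_conj_map]
  simp [mul_assoc]

/-- A maximal nilpotent subgroup not of prime-power order is a TI-subgroup. -/
theorem ti_of_not_isPrimePow [Finite G] (hCN : Cfsg.IsCNGroup G) {H : Subgroup G}
    (hH : IsMaxNilpotent H) (hn : ¬ IsPrimePow (Nat.card H)) {g : G}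
    (hne : H.map (MulAut.conj g).toMonoidHom ≠ H) :
    H ⊓ H.map (MulAut.conj g).toMonoidHom = ⊥ := by
  by_contra hbot
  apply hne
  obtain ⟨⟨x₀, hx₀, hx₀'⟩, hx₀1⟩ := ne_bot_iff_exists_ne_one.mp hbot
  have hx₀1' : x₀ ≠ 1 := fun h => hx₀1 (Subtype.ext h)
  obtain ⟨p, hp, hpd⟩ := Nat.exists_prime_and_dvd (fun h => hx₀1' (orderOf_eq_one_iff.mp h))
  obtain ⟨x, hx, hx', hxo⟩ : ∃ x, x ∈ H ∧ x ∈ H.map (MulAut.conj g).toMonoidHom ∧ orderOf x = p :=
    ⟨x₀ ^ (orderOf x₀ / p), pow_mem hx₀ _, pow_mem hx₀' _,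
      orderOf_pow_orderOf_div (orderOf_pos x₀).ne' hpd⟩
  have hx1 : x ≠ 1 := fun h => hp.ne_one (by rw [← hxo, h, orderOf_one])
  obtain ⟨q, hq, hqd, hqp⟩ : ∃ q, q.Prime ∧ q ∣ Nat.card H ∧ q ≠ p := by
    by_contra hno
    have hpH : p ∣ Nat.card H := hxo ▸ orderOf_dvd_natCard H hx
    apply hn
    rw [isPrimePow_iff_unique_prime_dvd]
    refine ⟨p, ⟨hp, hpH⟩, fun r hr => ?_⟩
    by_contra hrp
    exact hno ⟨r, hr.1, hr.2, hrp⟩
  obtain ⟨H', hH'⟩ : ∃ H' : Subgroup G, H' = H.map (MulAut.conj g).toMonoidHom := ⟨_, rfl⟩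
  rw [← hH'] at hx' ⊢
  have hM' : IsMaxNilpotent H' := hH' ▸ isMaxNilpotent_conj hH g
  have hqd' : q ∣ Nat.card H' := by
    rwa [hH', card_map_of_injective (MulAut.conj g).injective]
  obtain ⟨y, hyH', hyo, hyc⟩ := exists_central_orderOf hM'.1 hq hqd'
  have hy1 : y ≠ 1 := fun h => hq.ne_one (by rw [← hyo, h, orderOf_one])
  have hxo' : orderOf x = p ^ 1 := by rw [hxo, pow_one]
  have hyH : y ∈ H := qElement_mem (n := 1) hCN hH hp hq hqp hqd hx hx1 hxo' (by rw [hyo, pow_one])
    (hyc x hx').symm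
  refine eq_of_le_of_card_ge (H := H) (K := H') (fun h hh => ?_) ?_ |>.symm
  · refine mem_of_primePower_mem fun r m a hr ha hao => ?_
    have haH : a ∈ H := (zpowers_le.mpr hh) ha
    by_cases hrq : r = q
    · subst hrq
      exact qElement_mem hCN hM' hp hr hqp hqd' hx' hx1 hxo' hao (commute_of_mem_nilpotent hH.1 haH hx
        (coprime_of_pGroup_elements hr hp hqp hao hxo'))
    · rw [← centralizer_eq_of_central hCN hM' hy1 hyc, mem_centralizer_singleton_iff]
      exact commute_of_mem_nilpotent hH.1 haH hyH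
        (coprime_of_pGroup_elements (n := 1) hr hq hrq hao (by rw [hyo, pow_one]))
  · rw [hH', card_map_of_injective (MulAut.conj g).injective]

/-- A TI maximal nilpotent subgroup contains the centralizers of its non-identity elements. -/
theorem centralizer_le_of_ti [Finite G] (hCN : Cfsg.IsCNGroup G) {H : Subgroup G}
    (hH : IsMaxNilpotent H)
    (hti : ∀ g : G, H.map (MulAut.conj g).toMonoidHom ≠ H → H ⊓ H.map (MulAut.conj g).toMonoidHom = ⊥)
    {x₀ : G} (hx₀ : x₀ ∈ H) (hx₀1 : x₀ ≠ 1) : centralizer ({x₀} : Set G) ≤ H := by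
  obtain ⟨p, hp, hpd⟩ := Nat.exists_prime_and_dvd (fun h => hx₀1 (orderOf_eq_one_iff.mp h))
  obtain ⟨x, hx, hxo, hxle⟩ : ∃ x, x ∈ H ∧ orderOf x = p ^ 1 ∧
      centralizer ({x₀} : Set G) ≤ centralizer ({x} : Set G) := by
    refine ⟨x₀ ^ (orderOf x₀ / p), pow_mem hx₀ _, ?_, ?_⟩
    · rw [orderOf_pow_orderOf_div (orderOf_pos x₀).ne' hpd, pow_one]
    · intro c hc
      rw [mem_centralizer_singleton_iff] at hc ⊢
      exact ((show Commute c x₀ from hc).pow_right _).eq
  refine hxle.trans fun c hc => ?_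
  rw [mem_centralizer_singleton_iff] at hc
  have hx1 : x ≠ 1 := fun h => hp.ne_one (by rw [h, orderOf_one, pow_one] at hxo; exact hxo.symm)
  refine mem_of_primePower_mem fun r m a hr ha hao => ?_
  have hax : a * x = x * a :=
    mem_centralizer_singleton_iff.mp ((zpowers_le.mpr (mem_centralizer_singleton_iff.mpr hc)) ha)
  -- `a` normalizes `H` by the TI property
  have haN : a ∈ normalizer (H : Set G) := by
    have heq : H.map (MulAut.conj a).toMonoidHom = H := by
      by_contra hne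
      have hmem : x ∈ H ⊓ H.map (MulAut.conj a).toMonoidHom :=
        ⟨hx, mem_conj_map.mpr (by rw [mul_assoc, ← hax, ← mul_assoc, inv_mul_cancel, one_mul]; exact hx)⟩
      rw [hti a hne, mem_bot] at hmem
      exact hx1 hmem
    rw [mem_normalizer_iff]
    intro y
    constructor
    · intro hy
      exact heq ▸ ⟨y, hy, rfl⟩
    · intro hy
      have h2 : a * y * a⁻¹ ∈ H.map (MulAut.conj a).toMonoidHom := heq.symm ▸ hy
      simpa [mul_assoc] using mem_conj_map.mp h2
  by_cases hrd : r ∣ Nat.card H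
  · haveI : Fact r.Prime := ⟨hr⟩
    obtain ⟨S, hS⟩ := exists_sylow_le hCN hH hrd
    have hSN : zpowers a ≤ normalizer ((S : Subgroup G) : Set G) := by
      refine zpowers_le.mpr ?_
      have hfwd : ∀ y ∈ (S : Subgroup G), a * y * a⁻¹ ∈ (S : Subgroup G) := by
        intro y hy
        obtain ⟨i, hi⟩ := IsPGroup.iff_orderOf.mp S.isPGroup' ⟨y, hy⟩
        rw [Subgroup.orderOf_mk] at hi
        exact qElement_mem_sylow hH.1 hS ((mem_normalizer_iff.mp haN y).mp (hS hy))
          (by change orderOf (MulAut.conj a y) = _; rw [MulEquiv.orderOf_eq, hi])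
      have heq : (S : Subgroup G).map (MulAut.conj a).toMonoidHom = S :=
        eq_of_le_of_card_ge (by rintro _ ⟨y, hy, rfl⟩; exact hfwd y hy)
          (card_map_of_injective (MulAut.conj a).injective).ge
      rw [mem_normalizer_iff]
      intro y
      refine ⟨hfwd y, fun hy => ?_⟩
      have h2 : a * y * a⁻¹ ∈ (S : Subgroup G).map (MulAut.conj a).toMonoidHom := heq.symm ▸ hy
      simpa [mul_assoc] using mem_conj_map.mp h2
    have hsup := (IsPGroup.of_card (G := ↥(zpowers a)) (p := r) (n := m)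
      (by rw [Nat.card_zpowers]; exact hao)).to_sup_of_normal_right' S.isPGroup' hSN
    exact hS ((S.3 hsup le_sup_right).le (le_sup_left (a := zpowers a) (mem_zpowers a)))
  · obtain ⟨z, hzH, hzo, hzc⟩ := exists_central_orderOf hH.1 hp (by
      have := orderOf_dvd_natCard H hx
      rwa [hxo, pow_one] at this)
    have hz1 : z ≠ 1 := fun h => hp.ne_one (by rw [← hzo, h, orderOf_one])
    rw [← centralizer_eq_of_central hCN hH hz1 hzc, mem_centralizer_singleton_iff]
    have hcop : (orderOf a).Coprime (Nat.card H) := by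
      rw [hao]; exact (hr.coprime_iff_not_dvd.mpr hrd).pow_left m
    refine centralizes_of_centralizer_fixed (C := H ⊓ centralizer ({a} : Set G)) hH.1 inf_le_left
      haN hcop ?_ ?_ ?_ z hzH
    · exact fun h hh he => ⟨hh, mem_centralizer_singleton_iff.mpr he.symm⟩
    · exact mem_centralizer_iff.mpr fun h hh => mem_centralizer_singleton_iff.mp hh.2
    · intro h hh hhc
      refine commute_of_common hCN hx1 hax ?_ (hcop.coprime_dvd_right (orderOf_dvd_natCard H hh))
      exact (mem_centralizer_iff.mp hhc x ⟨hx, mem_centralizer_singleton_iff.mpr hax.symm⟩).symm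

end Cfsg.Agent.Lib.CNGroup.MaxNilpotent
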