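import Mathlib
import Cfsg.Prelude.Def_LieExceptional
import Cfsg.Agent.Lib.CNGroup.MaxNilpotent
import Cfsg.Agent.Lib.Fusion.Swappers
import Cfsg.Agent.Lib.Induced.FrobeniusKernel
import Cfsg.Agent.S0346

/-!
# Nilpotent TI Hall subgroups of even order in simple groups

Owner: helper73. If a finite simple group has a nilpotent TI Hall subgroup `H` of even order which
contains the centralisers of its non-identity elements, then `|H|` is a power of `2`: the group
acts on the cosets of `N(H)` as a Zassenhaus group of degree `|H| + 1`, and such a degree is one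
more than a prime power. In particular simple CN-groups are CIT-groups.
-/

set_option autoImplicit false
set_option linter.dupNamespace false
set_option linter.style.haveILetI false
set_option linter.unusedSectionVars false

namespace Cfsg.Agent.Lib.CNGroup.EvenTI

open Subgroup
open Cfsg.Agent.Lib.CNGroup.Basic Cfsg.Agent.Lib.CNGroup.MaxNilpotent
open Cfsg.Agent.Lib.Involutions.Basic Cfsg.Agent.Lib.Fusion.Swappers

universe u

variable {G : Type u} [Group G]

/-- A nilpotent TI Hall subgroup of even order containing the centralisers of its elements. -/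
structure EvenTI (H : Subgroup G) : Prop where
  nilp : Group.IsNilpotent H
  even : Even (Nat.card H)
  ti : ∀ x ∈ H, x ≠ 1 → ∀ g : G, g * x * g⁻¹ ∈ H → g ∈ normalizer (H : Set G)
  cent : ∀ x ∈ H, x ≠ 1 → centralizer ({x} : Set G) ≤ H
  syl : ∀ p : ℕ, p.Prime → p ∣ Nat.card H → ∃ S : Sylow p G, (S : Subgroup G) ≤ H

/-- The two point stabiliser attached to an element. -/
def pairStab (H : Subgroup G) (u : G) : Subgroup G :=
  normalizer (H : Set G) ⊓ (normalizer (H : Set G)).map (MulAut.conj u).toMonoidHom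

theorem mem_pairStab {H : Subgroup G} {u x : G} :
    x ∈ pairStab H u ↔ x ∈ normalizer (H : Set G) ∧ u⁻¹ * x * u ∈ normalizer (H : Set G) := by
  rw [pairStab, mem_inf, mem_conj_map]

theorem conj_mem {H : Subgroup G} {a x : G} (ha : a ∈ normalizer (H : Set G)) (hx : x ∈ H) :
    a * x * a⁻¹ ∈ H :=
  (mem_normalizer_iff.mp ha x).mp hx

variable [Finite G] {H : Subgroup G}

theorem mem_of_pElement (hH : EvenTI H) {p n : ℕ} (hp : p.Prime) (hd : p ∣ Nat.card H) {a : G}
    (ha : a ∈ normalizer (H : Set G)) (hao : orderOf a = p ^ n) : a ∈ H := by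
  haveI : Fact p.Prime := ⟨hp⟩
  obtain ⟨S, hS⟩ := hH.syl p hp hd
  have hfwd : ∀ y ∈ (S : Subgroup G), a * y * a⁻¹ ∈ (S : Subgroup G) := by
    intro y hy
    obtain ⟨i, hi⟩ := IsPGroup.iff_orderOf.mp S.isPGroup' ⟨y, hy⟩
    rw [Subgroup.orderOf_mk] at hi
    exact qElement_mem_sylow (n := i) hH.nilp hS (conj_mem ha (hS hy))
      (by rw [orderOf_conj_eq, hi])
  have heq : (S : Subgroup G).map (MulAut.conj a).toMonoidHom = S :=
    eq_of_le_of_card_ge (by rintro _ ⟨y, hy, rfl⟩; exact hfwd y hy)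
      (card_map_of_injective (MulAut.conj a).injective).ge
  have hSN : zpowers a ≤ normalizer ((S : Subgroup G) : Set G) := by
    refine zpowers_le.mpr (mem_normalizer_iff.mpr fun y => ⟨hfwd y, fun hy => ?_⟩)
    have h2 : a * y * a⁻¹ ∈ (S : Subgroup G).map (MulAut.conj a).toMonoidHom := heq.symm ▸ hy
    simpa [mul_assoc] using mem_conj_map.mp h2
  have hsup := (IsPGroup.of_card (G := ↥(zpowers a)) (p := p) (n := n)
    (by rw [Nat.card_zpowers]; exact hao)).to_sup_of_normal_right' S.isPGroup' hSN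
  exact hS ((S.3 hsup le_sup_right).le (le_sup_left (a := zpowers a) (mem_zpowers a)))

theorem invol_mem (hH : EvenTI H) {t : G} (ht : orderOf t = 2)
    (htN : t ∈ normalizer (H : Set G)) : t ∈ H :=
  mem_of_pElement (n := 1) hH Nat.prime_two (even_iff_two_dvd.mp hH.even) htN (by rw [ht, pow_one])

theorem stronglyEmbedded (hH : EvenTI H) (hN : normalizer (H : Set G) ≠ ⊤) :
    Cfsg.IsStronglyEmbedded (normalizer (H : Set G)) := by
  refine Involutions.StronglyEmbedded.of_forall_conj hN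
    (even_iff_two_dvd.mpr ((even_iff_two_dvd.mp hH.even).trans
      (card_dvd_of_le le_normalizer))) fun t htN ht g hg => ?_
  exact hH.ti t (invol_mem hH ht htN) (invol_ne_one ht) g
    (invol_mem hH ((orderOf_conj_eq g t).trans ht) hg)

theorem exists_central_invol (hH : EvenTI H) :
    ∃ z ∈ H, orderOf z = 2 ∧ ∀ h ∈ H, h * z = z * h :=
  exists_central_orderOf hH.nilp Nat.prime_two (even_iff_two_dvd.mp hH.even)

theorem exists_invol_notMem (hH : EvenTI H) (hN : normalizer (H : Set G) ≠ ⊤) :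
    ∃ u : G, orderOf u = 2 ∧ u ∉ normalizer (H : Set G) := by
  obtain ⟨z, hz, hzo, -⟩ := exists_central_invol hH
  obtain ⟨g, hg⟩ : ∃ g, g ∉ normalizer (H : Set G) := by
    by_contra hno
    exact hN ((eq_top_iff' _).mpr fun g => not_not.mp fun h => hno ⟨g, h⟩)
  refine ⟨g * z * g⁻¹, (orderOf_conj_eq g z).trans hzo, fun hmem => hg ?_⟩
  exact hH.ti z hz (invol_ne_one hzo) g (invol_mem hH ((orderOf_conj_eq g z).trans hzo) hmem)

/-- A swapper carrying the base point to `g`. -/
theorem exists_swapper (hH : EvenTI H) {g : G} (hg : g ∉ normalizer (H : Set G)) :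
    ∃ w : G, orderOf w = 2 ∧ w ∉ normalizer (H : Set G) ∧ g⁻¹ * w ∈ normalizer (H : Set G) := by
  obtain ⟨z, hz, hzo, -⟩ := exists_central_invol hH
  have hN : normalizer (H : Set G) ≠ ⊤ := fun e => hg (e ▸ mem_top g)
  obtain ⟨w, hw, -, hwN⟩ := exists_swap (stronglyEmbedded hH hN) hg hzo (le_normalizer hz) hzo
    (le_normalizer hz)
  refine ⟨w, hw, fun h => hg ?_, hwN⟩
  simpa using mul_mem h (inv_mem hwN)

theorem eq_one_of_mem_pairStab (hH : EvenTI H) {u x : G} (hu : u ∉ normalizer (H : Set G))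
    (hx : x ∈ pairStab H u) (hxH : x ∈ H) : x = 1 := by
  by_contra hx1
  have ho : orderOf (u⁻¹ * x * u) = orderOf x := by
    have := orderOf_conj_eq u⁻¹ x
    rwa [inv_inv] at this
  have hy : u⁻¹ * x * u ∈ H := by
    refine mem_of_primePower_mem fun p m a hp ha hao => ?_
    rcases Nat.eq_zero_or_pos m with rfl | hm
    · rw [pow_zero] at hao
      rw [orderOf_eq_one_iff.mp hao]
      exact one_mem H
    refine mem_of_pElement hH hp ?_ ((zpowers_le.mpr (mem_pairStab.mp hx).2) ha) hao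
    refine (dvd_pow_self p hm.ne').trans (hao ▸ ?_)
    refine (orderOf_dvd_of_mem_zpowers ha).trans ?_
    rw [ho]
    exact orderOf_dvd_natCard H hxH
  refine hu (inv_mem_iff.mp (hH.ti x hxH hx1 u⁻¹ ?_))
  rwa [inv_inv]

theorem eq_one_of_commute (hH : EvenTI H) {u x h : G} (hu : u ∉ normalizer (H : Set G))
    (hx : x ∈ pairStab H u) (hh : h ∈ H) (hh1 : h ≠ 1) (hc : x * h = h * x) : x = 1 :=
  eq_one_of_mem_pairStab hH hu hx (hH.cent h hh hh1 (mem_centralizer_singleton_iff.mpr hc))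

/-- A swapper inverts the two point stabiliser. -/
theorem inverted (hH : EvenTI H) {u x : G} (hu : orderOf u = 2)
    (huN : u ∉ normalizer (H : Set G)) (hx : x ∈ pairStab H u) : u * x * u = x⁻¹ := by
  classical
  obtain ⟨z, hz, hzo, -⟩ := exists_central_invol hH
  have hN : normalizer (H : Set G) ≠ ⊤ := fun e => huN (e ▸ mem_top u)
  have hse := stronglyEmbedded hH hN
  have hcard := card_sw hse (y := ((u : G) : G ⧸ normalizer (H : Set G)))
    (fun e => huN (mk_eq_one_iff.mp e))
  have huu := invol_mul_self hu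
  have hwmem : ∀ w : Sw (normalizer (H : Set G)) (u : G ⧸ normalizer (H : Set G)),
      u * (w : G) ∈ pairStab H u := by
    rintro ⟨w, hw, hwc⟩
    have h1 := hwc
    rw [smul_one_coset, QuotientGroup.eq, invol_inv hw] at h1
    rw [mem_pairStab]
    have h2 : u * w ∈ normalizer (H : Set G) := by
      have := inv_mem h1
      simpa [mul_inv_rev, invol_inv hw, invol_inv hu] using this
    refine ⟨h2, ?_⟩
    show u⁻¹ * (u * w) * u ∈ _
    rwa [inv_mul_cancel_left]
  let φ : Sw (normalizer (H : Set G)) (u : G ⧸ normalizer (H : Set G)) → pairStab H u :=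
    fun w => ⟨u * (w : G), hwmem w⟩
  have hφ : Function.Injective φ := fun a b hab =>
    Subtype.ext (mul_left_cancel (congrArg Subtype.val hab))
  let ψ : pairStab H u → Fusion.Swappers.Inv (normalizer (H : Set G)) := fun d =>
    ⟨(d : G) * z * (d : G)⁻¹, (orderOf_conj_eq _ _).trans hzo,
      mul_mem (mul_mem (mem_pairStab.mp d.2).1 (le_normalizer hz))
        (inv_mem (mem_pairStab.mp d.2).1)⟩
  have hψ : Function.Injective ψ := by
    intro a b hab
    have h1 : (a : G) * z * (a : G)⁻¹ = (b : G) * z * (b : G)⁻¹ := congrArg Subtype.val hab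
    have hc : (b : G)⁻¹ * (a : G) * z = z * ((b : G)⁻¹ * (a : G)) := by
      calc (b : G)⁻¹ * (a : G) * z = (b : G)⁻¹ * ((a : G) * z * (a : G)⁻¹) * (a : G) := by group
        _ = (b : G)⁻¹ * ((b : G) * z * (b : G)⁻¹) * (a : G) := by rw [h1]
        _ = z * ((b : G)⁻¹ * (a : G)) := by group
    have := eq_one_of_commute hH huN (mul_mem (inv_mem b.2) a.2) hz (invol_ne_one hzo) hc
    exact Subtype.ext (inv_mul_eq_one.mp this).symm
  have hle : Nat.card (pairStab H u) ≤
      Nat.card (Sw (normalizer (H : Set G)) (u : G ⧸ normalizer (H : Set G))) :=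
    (Nat.card_le_card_of_injective ψ hψ).trans hcard.ge
  obtain ⟨⟨w, hw, hwc⟩, hwx⟩ := (hφ.bijective_of_nat_card_le hle).2 ⟨x, hx⟩
  have : u * w = x := congrArg Subtype.val hwx
  rw [← this, mul_inv_rev, invol_inv hu, invol_inv hw, ← mul_assoc u u w, huu, one_mul]

theorem comm_pairStab (hH : EvenTI H) {u a b : G} (hu : orderOf u = 2)
    (huN : u ∉ normalizer (H : Set G)) (ha : a ∈ pairStab H u) (hb : b ∈ pairStab H u) :
    a * b = b * a := by
  have h1 : (a * b)⁻¹ = a⁻¹ * b⁻¹ := by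
    rw [← inverted hH hu huN (mul_mem ha hb), ← inverted hH hu huN ha, ← inverted hH hu huN hb]
    calc u * (a * b) * u = u * a * (u * u) * b * u := by rw [invol_mul_self hu]; group
      _ = u * a * u * (u * b * u) := by group
  calc a * b = ((a * b)⁻¹)⁻¹ := (inv_inv _).symm
    _ = (a⁻¹ * b⁻¹)⁻¹ := by rw [h1]
    _ = b * a := by group

/-- `N(H) = D H`. -/
theorem exists_eq_mul (hH : EvenTI H) {u n : G} (hu : orderOf u = 2)
    (huN : u ∉ normalizer (H : Set G)) (hn : n ∈ normalizer (H : Set G)) :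
    ∃ d ∈ pairStab H u, ∃ h ∈ H, n = d * h := by
  obtain ⟨z, hz, hzo, -⟩ := exists_central_invol hH
  have hN : normalizer (H : Set G) ≠ ⊤ := fun e => huN (e ▸ mem_top u)
  obtain ⟨d, hd, hdz⟩ := two_transitive (stronglyEmbedded hH hN) hu huN hzo (le_normalizer hz)
    ((orderOf_conj_eq n z).trans hzo) (mul_mem (mul_mem hn (le_normalizer hz)) (inv_mem hn))
  refine ⟨d, hd, d⁻¹ * n, hH.cent z hz (invol_ne_one hzo) (mem_centralizer_singleton_iff.mpr ?_),
    (mul_inv_cancel_left d n).symm⟩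
  calc d⁻¹ * n * z = d⁻¹ * (n * z * n⁻¹) * n := by group
    _ = d⁻¹ * (d * z * d⁻¹) * n := by rw [hdz]
    _ = z * (d⁻¹ * n) := by group

/-- Every element of `N(H)` outside `H` is conjugate under `H` into `D`. -/
theorem exists_conj (hH : EvenTI H) {u n : G} (hu : orderOf u = 2)
    (huN : u ∉ normalizer (H : Set G)) (hn : n ∈ normalizer (H : Set G)) (hnH : n ∉ H) :
    ∃ d ∈ pairStab H u, d ≠ 1 ∧ ∃ k ∈ H, n = k * d * k⁻¹ := by
  obtain ⟨d, hd, h, hh, rfl⟩ := exists_eq_mul hH hu huN hn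
  have hd1 : d ≠ 1 := by rintro rfl; exact hnH (by rwa [one_mul])
  have hdN := (mem_pairStab.mp hd).1
  let φ : H → H := fun k => ⟨d⁻¹ * k * d * (k : G)⁻¹, by
    refine mul_mem ?_ (inv_mem k.2)
    have := conj_mem (inv_mem hdN) k.2
    rwa [inv_inv] at this⟩
  have hφ : Function.Injective φ := by
    intro a b hab
    have h1 : d⁻¹ * a * d * (a : G)⁻¹ = d⁻¹ * b * d * (b : G)⁻¹ := congrArg Subtype.val hab
    have hc : d * ((b : G)⁻¹ * a) = (b : G)⁻¹ * a * d := by
      calc d * ((b : G)⁻¹ * a) = d * (b : G)⁻¹ * a := by group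
        _ = (b : G)⁻¹ * d * (d⁻¹ * b * d * (b : G)⁻¹) * a := by group
        _ = (b : G)⁻¹ * d * (d⁻¹ * a * d * (a : G)⁻¹) * a := by rw [h1]
        _ = (b : G)⁻¹ * a * d := by group
    by_contra hne
    refine hd1 (eq_one_of_commute hH huN hd (mul_mem (inv_mem b.2) a.2) (fun e => hne ?_) hc)
    exact Subtype.ext (inv_mul_eq_one.mp e).symm
  obtain ⟨⟨k, hk⟩, hkh⟩ := Finite.injective_iff_surjective.mp hφ ⟨h, hh⟩
  refine ⟨d, hd, hd1, k, hk, ?_⟩
  have : d⁻¹ * k * d * k⁻¹ = h := congrArg Subtype.val hkh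
  rw [← this]; group

theorem centralizer_subset (hH : EvenTI H) {u d c : G} (hu : orderOf u = 2)
    (huN : u ∉ normalizer (H : Set G)) (hd : d ∈ pairStab H u) (hd1 : d ≠ 1)
    (hc : c * d = d * c) : c ∈ pairStab H u := by
  have hdN := (mem_pairStab.mp hd).1
  have hcN : c ∈ normalizer (H : Set G) := by
    by_contra hcN
    obtain ⟨w, hw, hwN, hn⟩ := exists_swapper hH hcN
    obtain ⟨e, he, h, hh, hnh⟩ := exists_eq_mul hH hu huN hn
    have hconj : w⁻¹ * d * w = h⁻¹ * d * h := by
      have hw' : w = c * (e * h) := by rw [← hnh, mul_inv_cancel_left]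
      calc w⁻¹ * d * w = (e * h)⁻¹ * c⁻¹ * (d * c) * (e * h) := by rw [hw']; group
        _ = (e * h)⁻¹ * c⁻¹ * (c * d) * (e * h) := by rw [hc]
        _ = h⁻¹ * e⁻¹ * (d * e) * h := by group
        _ = h⁻¹ * e⁻¹ * (e * d) * h := by rw [comm_pairStab hH hu huN hd he]
        _ = h⁻¹ * d * h := by group
    have hdw : d ∈ pairStab H w := mem_pairStab.mpr ⟨hdN, by
      rw [hconj]
      exact mul_mem (mul_mem (inv_mem (le_normalizer hh)) hdN) (le_normalizer hh)⟩
    have hinv := inverted hH hw hwN hdw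
    rw [invol_inv hw, hinv] at hconj
    have hdd : d * d = 1 := by
      refine eq_one_of_mem_pairStab hH huN (mul_mem hd hd) ?_
      have h1 : (d * h⁻¹ * d⁻¹) * h ∈ H := mul_mem (conj_mem hdN (inv_mem hh)) hh
      have h2 : d * h⁻¹ * d⁻¹ * h = d * d := by
        have : h⁻¹ * d⁻¹ * h = d := by
          calc h⁻¹ * d⁻¹ * h = (h⁻¹ * d * h)⁻¹ := by group
            _ = (d⁻¹)⁻¹ := by rw [← hconj]
            _ = d := inv_inv d
        calc d * h⁻¹ * d⁻¹ * h = d * (h⁻¹ * d⁻¹ * h) := by group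
          _ = d * d := by rw [this]
      rwa [h2] at h1
    have hd2 : orderOf d = 2 := invol_iff.mpr ⟨hdd, hd1⟩
    exact hd1 (eq_one_of_mem_pairStab hH huN hd (invol_mem hH hd2 hdN))
  obtain ⟨e, he, h, hh, rfl⟩ := exists_eq_mul hH hu huN hcN
  have hdh : d * h = h * d := by
    calc d * h = e⁻¹ * (e * d) * h := by group
      _ = e⁻¹ * (d * e) * h := by rw [comm_pairStab hH hu huN he hd]
      _ = e⁻¹ * (d * (e * h)) := by group
      _ = e⁻¹ * (e * h * d) := by rw [hc]
      _ = h * d := by group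
  by_cases hh1 : h = 1
  · rwa [hh1, mul_one]
  · exact absurd (eq_one_of_commute hH huN hd hh hh1 hdh) hd1

/-- A non-identity element of `D` fixes exactly two cosets. -/
theorem fixed_coset (hH : EvenTI H) {u d g : G} (hu : orderOf u = 2)
    (huN : u ∉ normalizer (H : Set G)) (hd : d ∈ pairStab H u) (hd1 : d ≠ 1)
    (hg : g ∉ normalizer (H : Set G)) (hfix : g⁻¹ * d * g ∈ normalizer (H : Set G)) :
    u⁻¹ * g ∈ normalizer (H : Set G) := by
  obtain ⟨w, hw, hwN, hn⟩ := exists_swapper hH hg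
  have hdw : d ∈ pairStab H w := mem_pairStab.mpr ⟨(mem_pairStab.mp hd).1, by
    have : w⁻¹ * d * w = (g⁻¹ * w)⁻¹ * (g⁻¹ * d * g) * (g⁻¹ * w) := by group
    rw [this]
    exact mul_mem (mul_mem (inv_mem hn) hfix) hn⟩
  have h1 := inverted hH hw hwN hdw
  have h2 := inverted hH hu huN hd
  have hww := invol_mul_self hw
  have hc : u * w * d = d * (u * w) := by
    calc u * w * d = u * (w * d * w) * w⁻¹ := by group
      _ = u * d⁻¹ * w⁻¹ := by rw [h1]
      _ = u * d⁻¹ * u * (u⁻¹ * w⁻¹) := by group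
      _ = u * (u * d * u) * u * (u⁻¹ * w⁻¹) := by rw [h2]
      _ = (u * u) * d * (u * u) * (u⁻¹ * w⁻¹) := by group
      _ = d * (u * w) := by rw [invol_mul_self hu, invol_inv hu, invol_inv hw]; group
  have huw := (mem_pairStab.mp (centralizer_subset hH hu huN hd hd1 hc)).1
  have : u⁻¹ * g = u * w * (g⁻¹ * w)⁻¹ := by
    rw [mul_inv_rev, inv_inv, invol_inv hu]; group
  rw [this]
  exact mul_mem huw (inv_mem hn)

/-- `H` is transitive on the other cosets, if the two point stabiliser is not trivial. -/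
theorem exists_translate (hH : EvenTI H) {u g : G} (hu : orderOf u = 2)
    (huN : u ∉ normalizer (H : Set G)) (hne : ∃ d ∈ pairStab H u, d ≠ 1)
    (hg : g ∉ normalizer (H : Set G)) :
    ∃ k ∈ H, u⁻¹ * k⁻¹ * g ∈ normalizer (H : Set G) := by
  obtain ⟨w, hw, hwN, hn⟩ := exists_swapper hH hg
  obtain ⟨d₀, hd₀, hd₀1⟩ := hne
  obtain ⟨z, hz, hzo, -⟩ := exists_central_invol hH
  have hN : normalizer (H : Set G) ≠ ⊤ := fun e => huN (e ▸ mem_top u)
  obtain ⟨e, he, hez⟩ := two_transitive (stronglyEmbedded hH hN) hw hwN hzo (le_normalizer hz)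
    ((orderOf_conj_eq d₀ z).trans hzo)
    (mul_mem (mul_mem (mem_pairStab.mp hd₀).1 (le_normalizer hz))
      (inv_mem (mem_pairStab.mp hd₀).1))
  have he' : e ∈ pairStab H w := he
  have he1 : e ≠ 1 := by
    rintro rfl
    rw [one_mul, inv_one, mul_one] at hez
    refine hd₀1 (eq_one_of_commute hH huN hd₀ hz (invol_ne_one hzo) ?_)
    calc d₀ * z = d₀ * z * d₀⁻¹ * d₀ := by group
      _ = z * d₀ := by rw [← hez]
  obtain ⟨d, hd, hd1, k, hk, rfl⟩ := exists_conj hH hu huN (mem_pairStab.mp he').1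
    fun h => he1 (eq_one_of_mem_pairStab hH hwN he' h)
  refine ⟨k, hk, ?_⟩
  have hkN : k ∈ normalizer (H : Set G) := le_normalizer hk
  have h1 := fixed_coset hH hu huN hd hd1 (g := k⁻¹ * w)
    (fun h => hwN (by simpa using mul_mem hkN h)) (by
      have : (k⁻¹ * w)⁻¹ * d * (k⁻¹ * w) = w⁻¹ * (k * d * k⁻¹) * w := by group
      rw [this]
      exact (mem_pairStab.mp he').2)
  have : u⁻¹ * k⁻¹ * g = u⁻¹ * (k⁻¹ * w) * (g⁻¹ * w)⁻¹ := by group
  rw [this]
  exact mul_mem h1 (inv_mem hn)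

theorem smul_eq_iff {K : Subgroup G} {x g g' : G} :
    x • (g : G ⧸ K) = (g' : G ⧸ K) ↔ g'⁻¹ * x * g ∈ K := by
  rw [MulAction.Quotient.smul_mk, eq_comm, QuotientGroup.eq, smul_eq_mul, mul_assoc]

/-- `G` is a Zassenhaus group on the cosets of `N(H)`, with kernel `H`. -/
theorem zassenhaus [IsSimpleGroup G] (hH : EvenTI H)
    (hN : normalizer (H : Set G) ≠ ⊤) :
    ∃ a b : G ⧸ normalizer (H : Set G), a ≠ b ∧
      Cfsg.IsZassenhausGroup G (G ⧸ normalizer (H : Set G)) ∧ Zassenhaus.RegKernel a b H := by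
  classical
  set N := normalizer (H : Set G) with hNdef
  obtain ⟨u, hu, huN⟩ := exists_invol_notMem hH hN
  by_cases hne : ∃ d ∈ pairStab H u, d ≠ 1
  swap
  · -- a trivial two point stabiliser: `H` would be a Frobenius complement
    exfalso
    have hNH : N ≤ H := by
      intro n hn
      obtain ⟨d, hd, h, hh, rfl⟩ := exists_eq_mul hH hu huN hn
      rw [show d = 1 from not_not.mp fun h1 => hne ⟨d, hd, h1⟩, one_mul]
      exact hh
    obtain ⟨K, hK, hc, -⟩ := Induced.FrobeniusKernel.exists_normal_complement (H := H)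
      (fun g hg h hh hgh => not_not.mp fun h1 => hg (hNH (hH.ti h hh h1 g hgh)))
    rcases hK.eq_bot_or_eq_top with rfl | rfl
    · refine huN (le_normalizer ?_)
      rw [isComplement'_bot_left.mp hc]
      exact mem_top u
    · have hb : H = ⊥ := isComplement'_top_left.mp hc
      obtain ⟨z, hz, hzo, -⟩ := exists_central_invol hH
      rw [hb, mem_bot] at hz
      exact invol_ne_one hzo hz
  haveI : Fintype (G ⧸ N) := Fintype.ofFinite _
  let o : G ⧸ N := ((1 : G) : G ⧸ N)
  let q : G ⧸ N := ((u : G) : G ⧸ N)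
  have hoq : q ≠ o := fun e => huN (mk_eq_one_iff.mp e)
  have htrans : ∀ y : G ⧸ N, y ≠ o → ∃ k ∈ H, k • q = y ∧ k • o = o := by
    intro y hy
    induction y using QuotientGroup.induction_on with
    | H g =>
      obtain ⟨k, hk, hku⟩ := exists_translate hH hu huN hne (fun h => hy (mk_eq_one_iff.mpr h))
      refine ⟨k, hk, smul_eq_iff.mpr ?_, smul_eq_iff.mpr (by simpa using le_normalizer hk)⟩
      have := inv_mem hku
      simpa [mul_inv_rev, mul_assoc] using this
  have hpair : ∀ a b : G ⧸ N, a ≠ b → ∃ g : G, g • o = a ∧ g • q = b := by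
    intro a b hab
    obtain ⟨g, hg⟩ := MulAction.exists_smul_eq G o a
    obtain ⟨k, -, hkq, hko⟩ := htrans (g⁻¹ • b)
      (fun e => hab (by rw [← hg, ← e, smul_inv_smul]))
    exact ⟨g * k, by rw [mul_smul, hko, hg], by rw [mul_smul, hkq, smul_inv_smul]⟩
  have hfix2 : ∀ x : G, x • o = o → x • q = q → x ∈ pairStab H u := fun x h1 h2 =>
    mem_pairStab.mpr ⟨by simpa using smul_eq_iff.mp h1, smul_eq_iff.mp h2⟩
  have hZ : Cfsg.IsZassenhausGroup G (G ⧸ N) := by
    refine ⟨⟨fun {a b} hab => ?_⟩, ?_, ?_, ?_, ?_⟩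
    · rcases (MulAction.toPermHom G (G ⧸ N)).normal_ker.eq_bot_or_eq_top with hk | hk
      · exact (MonoidHom.ker_eq_bot_iff _).mp hk (Equiv.ext hab)
      · refine absurd ((eq_top_iff' N).mpr fun g => ?_) hN
        have hg : g ∈ (MulAction.toPermHom G (G ⧸ N)).ker := hk ▸ mem_top g
        have h1 : g • o = o := congrFun (congrArg DFunLike.coe (MonoidHom.mem_ker.mp hg)) o
        simpa using smul_eq_iff.mp h1
    · rw [MulAction.is_two_pretransitive_iff]
      intro a b c d hab hcd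
      obtain ⟨g, hga, hgb⟩ := hpair a b hab
      obtain ⟨g', hgc, hgd⟩ := hpair c d hcd
      exact ⟨g' * g⁻¹, by rw [mul_smul, ← hga, inv_smul_smul, hgc],
        by rw [mul_smul, ← hgb, inv_smul_smul, hgd]⟩
    · intro x a b c hab hbc hac hxa hxb hxc
      obtain ⟨g, hga, hgb⟩ := hpair a b hab
      by_contra hx1
      have hy1 : g⁻¹ * x * g ≠ 1 := fun e => hx1 (by
        have := congrArg (fun t => g * t * g⁻¹) e
        simpa [mul_assoc] using this)
      have hy : g⁻¹ * x * g ∈ pairStab H u := hfix2 _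
        (by rw [mul_smul, mul_smul, hga, hxa, ← hga, inv_smul_smul])
        (by rw [mul_smul, mul_smul, hgb, hxb, ← hgb, inv_smul_smul])
      have hfc : (g⁻¹ * x * g) • (g⁻¹ • c) = g⁻¹ • c := by
        rw [mul_smul, mul_smul, smul_inv_smul, hxc]
      have hco : g⁻¹ • c ≠ o := fun e => hac (by rw [← hga, ← e, smul_inv_smul])
      have hcq : g⁻¹ • c ≠ q := fun e => hbc (by rw [← hgb, ← e, smul_inv_smul])
      generalize g⁻¹ • c = y at hfc hco hcq
      induction y using QuotientGroup.induction_on with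
      | H v =>
        refine hcq (QuotientGroup.eq.mpr ?_)
        have := fixed_coset hH hu huN hy hy1 (fun h => hco (mk_eq_one_iff.mpr h))
          (smul_eq_iff.mp hfc)
        simpa using inv_mem this
    · obtain ⟨d, hd, hd1⟩ := hne
      exact ⟨d, hd1, o, q, hoq.symm, smul_eq_iff.mpr (by simpa using (mem_pairStab.mp hd).1),
        smul_eq_iff.mpr (mem_pairStab.mp hd).2⟩
    · intro M hM hMt
      rcases hM.eq_bot_or_eq_top with rfl | rfl
      · obtain ⟨⟨m, hm⟩, hmo⟩ := hMt.exists_smul_eq o q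
        rw [mem_bot] at hm
        subst hm
        exact absurd ((one_smul G o).symm.trans hmo).symm hoq
      · obtain ⟨z, hz, hzo, -⟩ := exists_central_invol hH
        refine ⟨o, fun he => invol_ne_one hzo ?_⟩
        have : (⟨z, mem_top z⟩ : (⊤ : Subgroup G)) ∈
            MulAction.stabilizer (⊤ : Subgroup G) o :=
          show z • o = o from smul_eq_iff.mpr (by simpa using le_normalizer hz)
        exact congrArg Subtype.val (mem_bot.mp (le_of_eq he this))
  refine ⟨o, q, hoq.symm, hZ, fun k hk => MulAction.mem_stabilizer_iff.mpr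
    (smul_eq_iff.mpr (by simpa using le_normalizer hk)), fun g hg k hk => conj_mem ?_ hk, fun y hy => ?_⟩
  · simpa using smul_eq_iff.mp hg
  obtain ⟨k, hk, hkq, hko⟩ := htrans y hy
  refine ⟨⟨k, hk⟩, hkq, fun w hw => Subtype.ext ?_⟩
  have hw' : (w : G) • q = y := hw
  have hmem : k⁻¹ * w ∈ pairStab H u := hfix2 _
    (smul_eq_iff.mpr (by simpa using mul_mem (inv_mem (le_normalizer hk)) (le_normalizer w.2)))
    (by rw [mul_smul, hw', ← hkq, inv_smul_smul])
  exact (inv_mul_eq_one.mp (eq_one_of_mem_pairStab hH huN hmem (mul_mem (inv_mem hk) w.2))).symm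

/-- The main theorem: `|H|` is a prime power. -/
theorem isPrimePow_card [IsSimpleGroup G] (hH : EvenTI H)
    (hN : normalizer (H : Set G) ≠ ⊤) : IsPrimePow (Nat.card H) := by
  classical
  obtain ⟨a, b, hab, hZ, hU⟩ := zassenhaus hH hN
  haveI : Fintype (G ⧸ normalizer (H : Set G)) := Fintype.ofFinite _
  have h1 := Cfsg.Agent.S0346.result hZ
  have h2 := Zassenhaus.RegKernel.card_add_one hab hU
  rwa [← Nat.card_eq_fintype_card, ← h2, Nat.add_sub_cancel] at h1

/-- Simple non-abelian CN-groups are CIT-groups. -/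
theorem isPGroup_centralizer_of_isCNGroup [IsSimpleGroup G] (hG : ∃ a b : G, a * b ≠ b * a)
    (hCN : Cfsg.IsCNGroup G) {t : G} (ht : orderOf t = 2) :
    IsPGroup 2 (centralizer ({t} : Set G)) := by
  classical
  have ht1 : t ≠ 1 := invol_ne_one ht
  obtain ⟨H, hH, hle⟩ := exists_maxNilpotent_ge (hCN t ht1)
  have htH : t ∈ H := hle (mem_centralizer_singleton_iff.mpr rfl)
  have h2 : 2 ∣ Nat.card H := ht ▸ orderOf_dvd_natCard H htH
  by_cases hpp : IsPrimePow (Nat.card H)
  · obtain ⟨p, k, hp, hk, hpk⟩ := (isPrimePow_nat_iff _).mp hpp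
    have hp2 : p = 2 := ((Nat.prime_dvd_prime_iff_eq Nat.prime_two hp).mp
      (Nat.prime_two.dvd_of_dvd_pow (hpk ▸ h2))).symm
    subst hp2
    exact (IsPGroup.of_card (p := 2) (n := k) hpk.symm).to_le hle
  exfalso
  have hti : ∀ g : G, H.map (MulAut.conj g).toMonoidHom ≠ H →
      H ⊓ H.map (MulAut.conj g).toMonoidHom = ⊥ := fun g hg => ti_of_not_isPrimePow hCN hH hpp hg
  have hE : EvenTI H := by
    refine ⟨hH.1, even_iff_two_dvd.mpr h2, ?_, fun x hx hx1 => centralizer_le_of_ti hCN hH hti hx hx1,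
      fun p hp hd => haveI := Fact.mk hp; exists_sylow_le hCN hH hd⟩
    intro x hx hx1 g hg
    have heq : H.map (MulAut.conj g).toMonoidHom = H := by
      by_contra hne
      have hmem : g * x * g⁻¹ ∈ H ⊓ H.map (MulAut.conj g).toMonoidHom :=
        ⟨hg, mem_conj_map.mpr (by simpa [mul_assoc] using hx)⟩
      rw [hti g hne, mem_bot] at hmem
      exact hx1 (conj_eq_one_iff.mp hmem)
    refine mem_normalizer_iff.mpr fun y => ⟨fun hy => heq ▸ ⟨y, hy, rfl⟩, fun hy => ?_⟩
    rw [← heq] at hy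
    simpa [mul_assoc] using mem_conj_map.mp hy
  refine hpp (isPrimePow_card hE fun hN => ?_)
  -- a normal `H` would make `G` nilpotent, hence abelian
  haveI : H.Normal := normalizer_eq_top_iff.mp hN
  rcases ‹H.Normal›.eq_bot_or_eq_top with hb | htop
  · exact ht1 (by rw [hb, mem_bot] at htH; exact htH)
  haveI : Group.IsNilpotent G := by
    haveI := hH.1
    exact Group.nilpotent_of_mulEquiv ((MulEquiv.subgroupCongr htop).trans Subgroup.topEquiv)
  obtain ⟨a, b, hab⟩ := hG
  rcases (inferInstance : (center G).Normal).eq_bot_or_eq_top with hz | hz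
  · haveI : Nontrivial G := ⟨⟨t, 1, ht1⟩⟩
    exact absurd hz (Group.IsNilpotent.center_ne_bot G)
  · exact hab (mem_center_iff.mp (hz ▸ mem_top b) a)

end Cfsg.Agent.Lib.CNGroup.EvenTI
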