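import Mathlib
import Cfsg.Agent.Lib.CNGroup.Basic
import Cfsg.Agent.Lib.Cores.MinNormal

/-! Quotients of CN-groups by solvable normal subgroups. -/

set_option autoImplicit false

namespace Cfsg.Agent.Lib.CNGroup.Quotient

open Subgroup
open Cfsg.Agent.Lib.CNGroup.Basic Cfsg.Agent.Lib.Cores.MinNormal

universe u

theorem isCNGroup_quotient_aux : ∀ (n : ℕ) (G : Type u) [Group G] [Finite G],
    Nat.card G = n → Cfsg.IsCNGroup G → ∀ (H : Subgroup G) [H.Normal], Group.IsSolvable H →
      Cfsg.IsCNGroup (G ⧸ H) := by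
  intro n
  induction n using Nat.strong_induction_on with
  | _ n ih =>
  intro G _ _ hn hCN H _ hH
  rcases eq_or_ne H ⊥ with hbot | hbot
  · subst hbot
    exact isCNGroup_congr QuotientGroup.quotientBot.symm hCN
  obtain ⟨N, hNn, hNle, hNne, hmin⟩ := exists_minimal_le (K := H) hbot
  haveI : Group.IsSolvable N :=
    Group.isSolvable_of_isSolvable_injective (f := Subgroup.inclusion hNle) (Subgroup.inclusion_injective hNle)
  haveI := isMulCommutative_of_solvable hNne hmin
  obtain ⟨p, hp, hpow⟩ := exists_prime_pow_eq_one hNne hmin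
  haveI : Fact p.Prime := ⟨hp⟩
  have hquot := isCNGroup_quotient_abelian hCN N (isPGroup_of_pow_eq_one hpow) inferInstance
  have hlt : Nat.card (G ⧸ N) < n := by
    rw [← hn]
    exact Cfsg.Agent.Lib.Hall.card_quotient_lt hNne
  let H' : Subgroup (G ⧸ N) := H.map (QuotientGroup.mk' N)
  haveI : H'.Normal := Normal.map inferInstance _ (QuotientGroup.mk'_surjective N)
  haveI := hH
  have hH' : Group.IsSolvable H' :=
    Group.isSolvable_of_surjective (f := (QuotientGroup.mk' N).subgroupMap H)
      ((QuotientGroup.mk' N).subgroupMap_surjective H)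
  exact isCNGroup_congr (QuotientGroup.quotientQuotientEquivQuotient N H hNle)
    (ih _ hlt (G ⧸ N) rfl hquot H' hH')

/-- The quotient of a CN-group by a solvable normal subgroup is a CN-group. -/
theorem isCNGroup_quotient {G : Type u} [Group G] [Finite G] (hCN : Cfsg.IsCNGroup G)
    (H : Subgroup G) [H.Normal] (hH : Group.IsSolvable H) : Cfsg.IsCNGroup (G ⧸ H) :=
  isCNGroup_quotient_aux _ G rfl hCN H hH

end Cfsg.Agent.Lib.CNGroup.Quotient
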