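import Mathlib
import Cfsg.Agent.Lib.CNGroup.Quotient
import Cfsg.Agent.Lib.CNGroup.MaxNilpotent
import Cfsg.Agent.Lib.Frobenius.Complement
import Cfsg.Agent.Lib.PGroups.UniqueInvolution
import Cfsg.Agent.Lib.Cores.Basic
import Cfsg.Agent.Lib.OddOrder.Basic
import Cfsg.Agent.S0069

/-! Solvable CN-groups (Gorenstein 14.1): Frobenius groups and three-step groups. -/

set_option autoImplicit false
set_option linter.style.haveILetI false

namespace Cfsg.Agent.Lib.CNGroup.Solvable

open Subgroup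
open scoped Pointwise
open Cfsg.Agent.Lib.CNGroup.Basic Cfsg.Agent.Lib.CNGroup.MaxNilpotent

universe u

variable {G : Type u} [Group G]

/-! ### Nilpotent fixed-point-free complements -/

/-- A finite group has all Sylow subgroups cyclic or quaternion if it is a fixed-point-free
complement. -/
theorem sylow_of_fpf [Finite G] {K E : Subgroup G} [K.Normal] (hc : IsComplement' K E)
    (hK : K ≠ ⊥) (hfpf : ∀ e ∈ E, e ≠ 1 → K ⊓ centralizer ({e} : Set G) = ⊥)
    (p : ℕ) [Fact p.Prime] (P : Sylow p E) :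
    IsCyclic P ∨ (p = 2 ∧ ∃ n : ℕ, Nonempty (P ≃* QuaternionGroup (2 ^ n))) := by
  rcases eq_or_ne E ⊥ with hE | hE
  · left
    subst hE
    infer_instance
  have hF := (Frobenius.isFrobeniusComplement_iff_centralizer hc hK hE).mpr hfpf
  rcases PGroups.isCyclic_or_quaternion (p := p) P.2 (fun x y hx hy => by
      rw [Frobenius.zpowers_eq_of_isPGroup hF hc P.2 hx hy]
      exact mem_zpowers y) with h | ⟨hp, n, -, h⟩
  · exact Or.inl h
  · exact Or.inr ⟨hp, n, h⟩

theorem isCyclic_of_fpf_of_odd [Finite G] {K E : Subgroup G} [K.Normal] (hc : IsComplement' K E)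
    (hK : K ≠ ⊥) (hfpf : ∀ e ∈ E, e ≠ 1 → K ⊓ centralizer ({e} : Set G) = ⊥)
    (hnil : Group.IsNilpotent E) (hodd : Odd (Nat.card E)) : IsCyclic E := by
  haveI := hnil
  haveI : IsZGroup E := ⟨fun p hp P => by
    haveI : Fact p.Prime := ⟨hp⟩
    rcases sylow_of_fpf hc hK hfpf p P with h | ⟨_, n, ⟨e⟩⟩
    · exact h
    · exfalso
      have h4 : 2 ∣ Nat.card E := by
        refine dvd_trans ?_ (card_subgroup_dvd_card (P : Subgroup E))
        rw [Nat.card_congr e.toEquiv, Nat.card_eq_fintype_card, QuaternionGroup.card]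
        exact ⟨2 * 2 ^ n, by ring⟩
      exact (Nat.not_even_iff_odd.mpr hodd) (even_iff_two_dvd.mpr h4)⟩
  infer_instance

/-- A nilpotent fixed-point-free complement is cyclic or odd cyclic times quaternion. -/
theorem structure_of_fpf [Finite G] {K E : Subgroup G} [K.Normal] (hc : IsComplement' K E)
    (hK : K ≠ ⊥) (hfpf : ∀ e ∈ E, e ≠ 1 → K ⊓ centralizer ({e} : Set G) = ⊥)
    (hnil : Group.IsNilpotent E) :
    IsCyclic E ∨ ∃ C Q : Subgroup G, C ⊔ Q = E ∧ (∀ a ∈ C, ∀ b ∈ Q, a * b = b * a) ∧ IsCyclic C ∧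
      Odd (Nat.card C) ∧ ∃ n : ℕ, Nonempty (↥Q ≃* QuaternionGroup (2 ^ n)) := by
  haveI := hnil
  haveI : Fact (Nat.Prime 2) := ⟨Nat.prime_two⟩
  by_cases hall : ∀ P : Sylow 2 E, IsCyclic P
  · left
    haveI : IsZGroup E := ⟨fun p hp P => by
      haveI : Fact p.Prime := ⟨hp⟩
      rcases sylow_of_fpf hc hK hfpf p P with h | ⟨h2, -⟩
      · exact h
      · subst h2; exact hall P⟩
    infer_instance
  · right
    obtain ⟨P, hP⟩ := not_forall.mp hall
    obtain ⟨n, ⟨e⟩⟩ : ∃ n : ℕ, Nonempty (P ≃* QuaternionGroup (2 ^ n)) :=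
      ((sylow_of_fpf hc hK hfpf 2 P).resolve_left hP).2
    obtain ⟨D, hD⟩ := exists_left_complement'_of_coprime (N := (P : Subgroup E))
      P.card_coprime_index
    have hDodd : Odd (Nat.card D) := by
      rw [← Nat.not_even_iff_odd, even_iff_two_dvd, ← hD.index_eq_card]
      exact P.not_dvd_index
    have hcop : (Nat.card D).Coprime (Nat.card (P : Subgroup E)) := by
      rw [← hD.index_eq_card]
      exact P.card_coprime_index.symm
    have hDc : IsCyclic D := by
      haveI : IsZGroup D := ⟨fun p hp R => by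
        haveI : Fact p.Prime := ⟨hp⟩
        obtain ⟨S, hS⟩ := (R.isPGroup'.map D.subtype).exists_le_sylow
        rcases sylow_of_fpf hc hK hfpf p S with h | ⟨h2, -⟩
        · haveI : IsCyclic ((R : Subgroup D).map D.subtype) :=
            isCyclic_of_injective (inclusion hS) (inclusion_injective hS)
          exact isCyclic_of_surjective _
            (((R : Subgroup D).equivMapOfInjective D.subtype D.subtype_injective).symm.surjective)
        · subst h2
          have hR : (R : Subgroup D) = ⊥ := by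
            refine eq_bot_of_card_eq _ (Nat.eq_one_of_dvd_coprimes (a := 2 ^ (Nat.card D).factorization 2)
              (b := Nat.card D) ?_ ?_ (card_subgroup_dvd_card _))
            · exact (Nat.coprime_two_left.mpr hDodd).pow_left _
            · rw [Sylow.card_eq_multiplicity]
          rw [hR]; infer_instance⟩
      haveI : Group.IsNilpotent D := inferInstance
      infer_instance
    refine ⟨D.map E.subtype, (P : Subgroup E).map E.subtype, ?_, ?_, ?_, ?_, n, ?_⟩
    · rw [← Subgroup.map_sup, hD.sup_eq_top, ← MonoidHom.range_eq_map, range_subtype]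
    · rintro _ ⟨a, ha, rfl⟩ _ ⟨b, hb, rfl⟩
      exact congrArg Subtype.val (commute_of_coprime_nilpotent E a b (Nat.Coprime.of_dvd
        (orderOf_dvd_natCard D ha) (orderOf_dvd_natCard _ hb) hcop))
    · exact isCyclic_of_surjective _
        ((D.equivMapOfInjective E.subtype E.subtype_injective).surjective)
    · rwa [card_map_of_injective E.subtype_injective]
    · exact ⟨((P : Subgroup E).equivMapOfInjective E.subtype E.subtype_injective).symm.trans e⟩

/-! ### Normal maximal nilpotent subgroups -/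

theorem ne_bot_of_isMaxNilpotent [Finite G] {K : Subgroup G} (hK : IsMaxNilpotent K)
    (hne : K ≠ ⊤) : K ≠ ⊥ := by
  intro h
  apply hne
  rw [eq_top_iff]
  intro x _
  exact (hK.2 (zpowers x) (isNilpotent_of_commute fun _ _ _ _ a b _ _ _ _ _ =>
    (IsCyclic.commGroup (α := zpowers x)).mul_comm a b) (h ▸ bot_le)).le
    (mem_zpowers x)

theorem map_conj_eq_of_normal {K : Subgroup G} [K.Normal] (g : G) :
    K.map (MulAut.conj g).toMonoidHom = K := by
  ext y
  rw [mem_conj_map]
  refine ⟨fun h => ?_, fun h => by simpa using Normal.conj_mem ‹K.Normal› y h g⁻¹⟩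
  simpa [mul_assoc] using Normal.conj_mem ‹K.Normal› _ h g

/-- A normal maximal nilpotent proper subgroup of a CN-group is a Frobenius kernel with nilpotent
complement. -/
theorem exists_frobenius [Finite G] (hCN : Cfsg.IsCNGroup G) {K : Subgroup G} [K.Normal]
    (hK : IsMaxNilpotent K) (hne : K ≠ ⊤) :
    ∃ E : Subgroup G, IsComplement' K E ∧ E ≠ ⊥ ∧ Cfsg.IsFrobeniusComplement E ∧
      (∀ e ∈ E, e ≠ 1 → K ⊓ centralizer ({e} : Set G) = ⊥) ∧ Group.IsNilpotent E := by
  obtain ⟨E, hE⟩ := exists_right_complement'_of_coprime (coprime_index hCN hK)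
  have hKb := ne_bot_of_isMaxNilpotent hK hne
  have hEb : E ≠ ⊥ := by
    intro h
    subst h
    exact hne (isComplement'_bot_right.mp hE)
  have hcl : ∀ x ∈ K, x ≠ 1 → centralizer ({x} : Set G) ≤ K := fun x hx hx1 =>
    centralizer_le_of_ti hCN hK (fun g hg => absurd (map_conj_eq_of_normal g) hg) hx hx1
  have hfpf : ∀ e ∈ E, e ≠ 1 → K ⊓ centralizer ({e} : Set G) = ⊥ := by
    intro e he he1
    rw [eq_bot_iff_forall]
    rintro x ⟨hxK, hxe⟩
    by_contra hx1
    exact he1 (disjoint_def.mp hE.disjoint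
      (hcl x hxK hx1 (mem_centralizer_singleton_iff.mpr (mem_centralizer_singleton_iff.mp hxe).symm)) he)
  refine ⟨E, hE, hEb, (Frobenius.isFrobeniusComplement_iff_centralizer hE hKb hEb).mpr hfpf, hfpf, ?_⟩
  obtain ⟨z, hz⟩ := ne_bot_iff_exists_ne_one.mp (S0069.result K E hE hKb hEb hfpf)
  refine isNilpotent_mono (K := centralizer ({((z : E) : G)} : Set G)) (fun x hx => ?_)
    (hCN _ fun h => hz (Subtype.ext (Subtype.ext h)))
  exact mem_centralizer_singleton_iff.mpr (congrArg Subtype.val (mem_center_iff.mp z.2 ⟨x, hx⟩))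

theorem fittingHall_eq [Finite G] (hCN : Cfsg.IsCNGroup G) {K : Subgroup G} [K.Normal]
    (hK : IsMaxNilpotent K) : Cfsg.fittingHall G = K :=
  hK.2 _ (OddOrder.Basic.fittingHall_spec G).1
    (OddOrder.Basic.le_fittingHall hK.1 (coprime_index hCN hK))

/-- A nontrivial normal Sylow subgroup gives a normal maximal nilpotent subgroup. -/
theorem exists_normal_of_sylow [Finite G] (hCN : Cfsg.IsCNGroup G) {p : ℕ} [hp : Fact p.Prime]
    (P : Sylow p G) (hP1 : (P : Subgroup G) ≠ ⊥) (hPn : (P : Subgroup G).Normal) :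
    ∃ K : Subgroup G, K.Normal ∧ IsMaxNilpotent K ∧ (P : Subgroup G) ≤ K := by
  obtain ⟨H, hH, hPH⟩ := exists_maxNilpotent_ge (K := (P : Subgroup G)) P.isPGroup'.isNilpotent
  refine ⟨H, ?_, hH, hPH⟩
  by_cases hpp : IsPrimePow (Nat.card H)
  · obtain ⟨r, k, hr, hk, hrk⟩ := hpp
    rw [← Nat.prime_iff] at hr
    have hpr : p = r := by
      obtain ⟨j, hj⟩ := P.isPGroup'.exists_card_eq
      have hj0 : j ≠ 0 := fun h => hP1 (eq_bot_of_card_eq _ (by rw [hj, h, pow_zero]))
      have hd : p ∣ r ^ k := by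
        rw [hrk]
        exact (dvd_pow_self p hj0).trans (hj ▸ card_dvd_of_le hPH)
      exact (Nat.prime_dvd_prime_iff_eq hp.out hr).mp (hp.out.dvd_of_dvd_pow hd)
    subst hpr
    rw [P.3 (IsPGroup.of_card (n := k) hrk.symm) hPH]
    exact hPn
  · refine ⟨fun h hh g => ?_⟩
    have heq : H.map (MulAut.conj g).toMonoidHom = H := by
      by_contra hne
      apply hP1
      rw [eq_bot_iff, ← ti_of_not_isPrimePow hCN hH hpp hne]
      intro x hx
      exact ⟨hPH hx, mem_conj_map.mpr (hPH (by simpa using hPn.conj_mem x hx g⁻¹))⟩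
    rw [← heq]
    exact ⟨h, hh, rfl⟩

/-- Two nontrivial cores give a normal maximal nilpotent subgroup. -/
theorem exists_normal_of_two_cores [Finite G] (hCN : Cfsg.IsCNGroup G) {p q : ℕ} [hp : Fact p.Prime]
    [hq : Fact q.Prime] (hpq : p ≠ q) (h1 : Cfsg.pCore p G ≠ ⊥) (h2 : Cfsg.pCore q G ≠ ⊥) :
    ∃ K : Subgroup G, K.Normal ∧ IsMaxNilpotent K := by
  haveI := Cores.fittingSubgroup_isNilpotent (G := G)
  obtain ⟨H, hH, hFH⟩ := exists_maxNilpotent_ge (Cores.fittingSubgroup_isNilpotent (G := G))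
  have hdvd : ∀ (r : ℕ) [Fact r.Prime], Cfsg.pCore r G ≠ ⊥ → r ∣ Nat.card H := by
    intro r _ hr
    obtain ⟨j, hj⟩ := (Cores.pCore_isPGroup (G := G) r).exists_card_eq
    have hj0 : j ≠ 0 := fun h => hr (eq_bot_of_card_eq _ (by rw [hj, h, pow_zero]))
    exact (dvd_pow_self r hj0).trans
      (hj ▸ card_dvd_of_le ((Cores.pCore_le_fittingSubgroup r).trans hFH))
  have hnpp : ¬ IsPrimePow (Nat.card H) := by
    rw [isPrimePow_iff_unique_prime_dvd]
    rintro ⟨r, -, huniq⟩
    exact hpq ((huniq p ⟨hp.out, hdvd p h1⟩).trans (huniq q ⟨hq.out, hdvd q h2⟩).symm)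
  refine ⟨H, ⟨fun h hh g => ?_⟩, hH⟩
  have heq : H.map (MulAut.conj g).toMonoidHom = H := by
    by_contra hne
    apply h1
    rw [eq_bot_iff, ← ti_of_not_isPrimePow hCN hH hnpp hne]
    intro x hx
    have hle := (Cores.pCore_le_fittingSubgroup (G := G) p).trans hFH
    exact ⟨hle hx, mem_conj_map.mpr (hle (by
      simpa using Normal.conj_mem (inferInstance : (Cfsg.pCore p G).Normal) x hx g⁻¹))⟩
  rw [← heq]
  exact ⟨h, hh, rfl⟩

/-! ### Three-step groups -/

/-- Elements of a cyclic normal subgroup generate normal subgroups. -/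
theorem zpowers_normal_of_cyclic {A : Subgroup G} (hA : A.Normal) [IsCyclic A] {a : G}
    (ha : a ∈ A) : (zpowers a).Normal := by
  refine ⟨fun y hy g => ?_⟩
  obtain ⟨d, hd⟩ := IsCyclic.exists_generator (α := A)
  obtain ⟨i, hi⟩ := mem_zpowers_iff.mp (hd ⟨a, ha⟩)
  obtain ⟨j, hj⟩ := mem_zpowers_iff.mp (hd ⟨g * (d : G) * g⁻¹, hA.conj_mem _ d.2 g⟩)
  obtain ⟨k, rfl⟩ := mem_zpowers_iff.mp hy
  rw [← conj_zpow]
  refine zpow_mem (mem_zpowers_iff.mpr ⟨j, ?_⟩) k
  have hi' := congrArg Subtype.val hi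
  have hj' := congrArg Subtype.val hj
  simp only [SubgroupClass.coe_zpow] at hi' hj'
  rw [← hi', ← conj_zpow, ← hj', ← zpow_mul, ← zpow_mul, mul_comm]

/-- Lift of a subgroup of a quotient of coprime order. -/
theorem exists_lift [Finite G] {H : Subgroup G} [H.Normal] (B : Subgroup (G ⧸ H))
    (hcop : (Nat.card H).Coprime (Nat.card B)) :
    ∃ A : Subgroup G, H ⊓ A = ⊥ ∧ Nat.card A = Nat.card B ∧
      H ⊔ A = B.comap (QuotientGroup.mk' H) ∧ Nonempty (A ≃* B) ∧
      A.map (QuotientGroup.mk' H) = B := by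
  obtain ⟨M, hM⟩ : ∃ M : Subgroup G, M = B.comap (QuotientGroup.mk' H) := ⟨_, rfl⟩
  have hHM : H ≤ M := by
    rw [hM]
    exact (QuotientGroup.ker_mk' H).symm.le.trans (ker_le_comap _ _)
  have hidx : (H.subgroupOf M).index = Nat.card B := by
    change H.relIndex M = _
    have h := H.relIndex_mul_index hHM
    rw [show M.index = B.index from hM ▸ index_comap_of_surjective B (QuotientGroup.mk'_surjective H),
      show H.index = Nat.card (G ⧸ H) from rfl, ← B.card_mul_index] at h
    exact Nat.eq_of_mul_eq_mul_right (Nat.pos_of_ne_zero index_ne_zero_of_finite) h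
  obtain ⟨D, hD⟩ := exists_right_complement'_of_coprime (N := H.subgroupOf M) (by
    rw [hidx, Nat.card_congr (subgroupOfEquivOfLe hHM).toEquiv]; exact hcop)
  refine ⟨D.map M.subtype, ?_, ?_, ?_, ?_⟩
  · rw [eq_bot_iff_forall]
    rintro _ ⟨hxH, ⟨d, hd, rfl⟩⟩
    exact congrArg Subtype.val (disjoint_def.mp hD.disjoint (x := d) hxH hd)
  · rw [card_map_of_injective M.subtype_injective, ← hidx, hD.symm.index_eq_card]
  · have h := congrArg (Subgroup.map M.subtype) hD.sup_eq_top
    rw [Subgroup.map_sup, ← MonoidHom.range_eq_map, range_subtype, map_subgroupOf_eq_of_le hHM] at h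
    exact h.trans hM
  · let A := D.map M.subtype
    have hmap : A.map (QuotientGroup.mk' H) = B := by
      have h := congrArg (Subgroup.map M.subtype) hD.sup_eq_top
      rw [Subgroup.map_sup, ← MonoidHom.range_eq_map, range_subtype, map_subgroupOf_eq_of_le hHM] at h
      have h' := congrArg (Subgroup.map (QuotientGroup.mk' H)) h
      rw [Subgroup.map_sup, QuotientGroup.map_mk'_self, bot_sup_eq] at h'
      refine h'.trans ?_
      rw [hM, map_comap_eq_self_of_surjective (QuotientGroup.mk'_surjective H)]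
    refine ⟨⟨(MulEquiv.ofBijective
      (((QuotientGroup.mk' H).comp A.subtype).codRestrict B fun a => hmap ▸ mem_map_of_mem _ a.2)
      ⟨?_, ?_⟩)⟩, hmap⟩
    · rw [← MonoidHom.ker_eq_bot_iff, eq_bot_iff_forall]
      rintro ⟨a, ha⟩ hk
      have haH : a ∈ H := (QuotientGroup.eq_one_iff a).mp (congrArg Subtype.val hk)
      obtain ⟨d, hd, rfl⟩ := ha
      have hd1 : d = 1 := disjoint_def.mp hD.disjoint (x := d) haH hd
      subst hd1
      exact Subtype.ext rfl
    · rintro ⟨b, hb⟩
      rw [← hmap] at hb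
      obtain ⟨a, ha, rfl⟩ := hb
      exact ⟨⟨a, ha⟩, rfl⟩

/-- If `C(H) ≤ H`, elements of order prime to `p` act fixed-point-freely on `O_p`. -/
theorem fpf_of_centralizer_le [Finite G] (hCN : Cfsg.IsCNGroup G) {p : ℕ} [hp : Fact p.Prime]
    {H : Subgroup G} [H.Normal] (hH : IsPGroup p H) (hC : centralizer (H : Set G) ≤ H)
    {a h : G} (hh : h ∈ H) (hh1 : h ≠ 1) (hah : a * h = h * a) (hcop : (orderOf a).Coprime p) :
    a = 1 := by
  have hord : ∀ x ∈ H, (orderOf a).Coprime (orderOf x) := by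
    intro x hx
    obtain ⟨i, hi⟩ := IsPGroup.iff_orderOf.mp hH ⟨x, hx⟩
    rw [Subgroup.orderOf_mk] at hi
    rw [hi]
    exact hcop.pow_right i
  haveI : Nontrivial H := ⟨⟨⟨h, hh⟩, 1, fun e => hh1 (congrArg Subtype.val e)⟩⟩
  haveI := hH.center_nontrivial
  obtain ⟨⟨z, hzc⟩, hz1⟩ := exists_ne (α := ↥(center H)) 1
  have hz : ∀ x ∈ H, x * z = z * x := fun x hx =>
    congrArg Subtype.val (mem_center_iff.mp hzc ⟨x, hx⟩)
  have hz1' : (z : G) ≠ 1 := fun e => hz1 (Subtype.ext (Subtype.ext e))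
  have haz : a * (z : G) = z * a :=
    commute_of_common hCN hh1 hah (hz h hh).symm (hord _ z.2)
  have haH : a ∈ H := hC (mem_centralizer_iff.mpr fun x hx =>
    (commute_of_common hCN hz1' haz (hz x hx) (hord x hx)).symm)
  exact orderOf_eq_one_iff.mp ((Nat.coprime_self _).mp (hord a haH))

/-- Coprime subgroups acting on `O_p` are complements of a Frobenius group. -/
theorem complement_in_sup [Finite G] {H A : Subgroup G} [H.Normal] (hdis : H ⊓ A = ⊥) :
    IsComplement' (H.subgroupOf (H ⊔ A)) (A.subgroupOf (H ⊔ A)) := by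
  refine isComplement'_of_disjoint_and_mul_eq_univ ?_ ?_
  · rw [disjoint_def]
    intro x hx hx'
    exact Subtype.ext (mem_bot.mp (hdis ▸ (⟨hx, hx'⟩ : (x : G) ∈ H ⊓ A)))
  · rw [Set.eq_univ_iff_forall]
    intro x
    obtain ⟨a, ha, b, hb, hab⟩ : (x : G) ∈ (H : Set G) * (A : Set G) := by
      rw [← normal_mul]
      exact x.2
    exact ⟨⟨a, le_sup_left (a := H) ha⟩, ha, ⟨b, le_sup_right (a := H) hb⟩, hb, Subtype.ext hab⟩

theorem isCyclic_of_fpf_action [Finite G] {H A : Subgroup G} [H.Normal] (hH : H ≠ ⊥)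
    (hdis : H ⊓ A = ⊥) (hfpf : ∀ a ∈ A, a ≠ 1 → H ⊓ centralizer ({a} : Set G) = ⊥) :
    (∀ p q : ℕ, p.Prime → q.Prime → Nat.card A = p * q → IsCyclic A) ∧
      (Group.IsNilpotent A → Odd (Nat.card A) → IsCyclic A) := by
  have hc := complement_in_sup hdis
  have hK : H.subgroupOf (H ⊔ A) ≠ ⊥ := by
    intro h
    apply hH
    rw [← map_subgroupOf_eq_of_le (le_sup_left : H ≤ H ⊔ A), h, Subgroup.map_bot]
  have hfpf' : ∀ e ∈ A.subgroupOf (H ⊔ A), e ≠ 1 →
      H.subgroupOf (H ⊔ A) ⊓ centralizer ({e} : Set ↥(H ⊔ A)) = ⊥ := by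
    intro e he he1
    rw [eq_bot_iff_forall]
    rintro x ⟨hx, hxe⟩
    refine Subtype.ext (mem_bot.mp ?_)
    rw [← hfpf e he (fun h => he1 (Subtype.ext h))]
    exact ⟨hx, mem_centralizer_singleton_iff.mpr
      (congrArg Subtype.val (mem_centralizer_singleton_iff.mp hxe))⟩
  let e := subgroupOfEquivOfLe (le_sup_right : A ≤ H ⊔ A)
  refine ⟨fun p q hp hq hcard => ?_, fun hnil hodd => ?_⟩
  · rcases eq_or_ne A ⊥ with hA | hA
    · subst hA; infer_instance
    have hA' : A.subgroupOf (H ⊔ A) ≠ ⊥ := by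
      intro h
      apply hA
      rw [← map_subgroupOf_eq_of_le (le_sup_right : A ≤ H ⊔ A), h, Subgroup.map_bot]
    have hF := (Frobenius.isFrobeniusComplement_iff_centralizer hc hK hA').mpr hfpf'
    obtain ⟨V, _, _, _, ρ, hρ⟩ := Frobenius.exists_isFPF_complement hF hc
    haveI := hρ.isCyclic_of_card_eq_mul hp hq (by rw [Nat.card_congr e.toEquiv, hcard])
    exact isCyclic_of_surjective e e.surjective
  · haveI := hnil
    haveI := isCyclic_of_fpf_of_odd hc hK hfpf' (Group.nilpotent_of_mulEquiv e.symm)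
      (by rwa [Nat.card_congr e.toEquiv])
    exact isCyclic_of_surjective e e.surjective

/-- A solvable CN-group is nilpotent, has a normal maximal nilpotent subgroup, or is a three-step
group. -/
theorem trichotomy [Finite G] [Group.IsSolvable G] (hCN : Cfsg.IsCNGroup G) :
    Group.IsNilpotent G ∨ (∃ K : Subgroup G, K.Normal ∧ IsMaxNilpotent K ∧ K ≠ ⊤) ∨
      ∃ p : ℕ, p.Prime ∧ Cfsg.IsThreeStepGroup p G := by
  by_cases hnn : Group.IsNilpotent G
  · exact Or.inl hnn
  right
  by_cases hK : ∃ K : Subgroup G, K.Normal ∧ IsMaxNilpotent K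
  · obtain ⟨K, hKn, hKm⟩ := hK
    refine Or.inl ⟨K, hKn, hKm, fun h => hnn ?_⟩
    have hK1 := hKm.1
    rw [h] at hK1
    haveI := hK1
    exact Group.nilpotent_of_mulEquiv Subgroup.topEquiv
  right
  haveI : Nontrivial G := by
    by_contra h
    haveI := not_nontrivial_iff_subsingleton.mp h
    exact hnn inferInstance
  obtain ⟨p, hp, hpb⟩ : ∃ p : ℕ, p.Prime ∧ Cfsg.pCore p G ≠ ⊥ := by
    by_contra hno
    push Not at hno
    apply Cores.fittingSubgroup_ne_bot (G := G)
    rw [Cores.fittingSubgroup_eq_iSup_pCore, eq_bot_iff]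
    exact iSup_le fun r => (hno r.1 r.2).le
  haveI : Fact p.Prime := ⟨hp⟩
  refine ⟨p, hp, hpb, ?_⟩
  let H := Cfsg.pCore p G
  have hHp : IsPGroup p H := Cores.pCore_isPGroup p
  have hsyl : ∀ {r : ℕ} [Fact r.Prime] (S : Sylow r G), (S : Subgroup G) ≠ ⊥ →
      ¬ (S : Subgroup G).Normal := fun S h1 h2 => by
    obtain ⟨K, hK1, hK2, -⟩ := exists_normal_of_sylow hCN S h1 h2
    exact hK ⟨K, hK1, hK2⟩
  have hCH : centralizer (H : Set G) ≤ H := by
    obtain ⟨h, hh1⟩ := ne_bot_iff_exists_ne_one.mp hpb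
    haveI hCn : Group.IsNilpotent (centralizer (H : Set G)) :=
      isNilpotent_mono (K := centralizer ({(h : G)} : Set G))
        (centralizer_le (by simp [H]))
        (hCN _ fun e => hh1 (Subtype.ext e))
    refine Cores.le_pCore (IsPGroup.iff_orderOf.mpr fun c => ?_)
    refine ⟨(orderOf c).factorization p, Nat.eq_pow_of_factorization_eq_single (orderOf_pos c).ne' ?_⟩
    ext r
    rw [Finsupp.single_apply]
    split_ifs with hr
    · rw [hr]
    by_contra hne
    have hr' := Nat.support_factorization (orderOf c) ▸ Finsupp.mem_support_iff.mpr hne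
    have hrp := Nat.prime_of_mem_primeFactors hr'
    haveI : Fact r.Prime := ⟨hrp⟩
    obtain ⟨S⟩ := (inferInstance : Nonempty (Sylow r (centralizer (H : Set G))))
    haveI : (S : Subgroup (centralizer (H : Set G))).Characteristic :=
      S.characteristic_of_normal inferInstance
    have hSle : (S : Subgroup (centralizer (H : Set G))).map (centralizer (H : Set G)).subtype ≤
        Cfsg.pCore r G := by
      haveI := Cores.normal_map_subtype (centralizer (H : Set G))
        (S : Subgroup (centralizer (H : Set G)))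
      exact Cores.le_pCore (S.isPGroup'.map _)
    have hS1 : (S : Subgroup (centralizer (H : Set G))).map (centralizer (H : Set G)).subtype ≠ ⊥ := by
      rw [Ne, map_eq_bot_iff_of_injective _ (subtype_injective _)]
      exact S.ne_bot_of_dvd_card ((Nat.dvd_of_mem_primeFactors hr').trans (orderOf_dvd_natCard c))
    exact hK (exists_normal_of_two_cores hCN hr hpb (ne_bot_of_le_ne_bot hS1 hSle))
  have hfpf : ∀ a h : G, h ∈ H → h ≠ 1 → a * h = h * a → (orderOf a).Coprime p → a = 1 :=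
    fun a h hh hh1 hah hcop => fpf_of_centralizer_le hCN hHp hCH hh hh1 hah hcop
  -- the quotient
  let f := QuotientGroup.mk' H
  have hf : Function.Surjective f := QuotientGroup.mk'_surjective H
  have hCNq : Cfsg.IsCNGroup (G ⧸ H) := Quotient.isCNGroup_quotient hCN H inferInstance
  have hcore : Cfsg.pCore p (G ⧸ H) = ⊥ := Cores.pCore_quotient_pCore p
  haveI : Group.IsSolvable (G ⧸ H) := Group.isSolvable_of_surjective hf
  obtain ⟨Ab, hAb⟩ : ∃ Ab : Subgroup (G ⧸ H), Ab = Cfsg.fittingSubgroup (G ⧸ H) := ⟨_, rfl⟩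
  haveI hAn : Ab.Normal := by rw [hAb]; infer_instance
  have hAnil : Group.IsNilpotent Ab := hAb ▸ Cores.fittingSubgroup_isNilpotent
  have hAp : (Nat.card Ab).Coprime p := by
    rw [Nat.coprime_comm, hp.coprime_iff_not_dvd]
    intro hd
    haveI := hAnil
    obtain ⟨S⟩ := (inferInstance : Nonempty (Sylow p Ab))
    haveI : (S : Subgroup Ab).Characteristic := S.characteristic_of_normal inferInstance
    haveI := Cores.normal_map_subtype Ab (S : Subgroup Ab)
    have hle : (S : Subgroup Ab).map Ab.subtype ≤ Cfsg.pCore p (G ⧸ H) :=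
      Cores.le_pCore (S.isPGroup'.map _)
    rw [hcore, le_bot_iff, map_eq_bot_iff_of_injective _ (subtype_injective _)] at hle
    exact S.ne_bot_of_dvd_card hd hle
  have hnq : ¬ Group.IsNilpotent (G ⧸ H) := by
    intro hq
    obtain ⟨S⟩ := (inferInstance : Nonempty (Sylow p G))
    have hSH : (S : Subgroup G) = H := by
      refine le_antisymm ?_ (Cores.pCore_le_sylow S)
      intro s hs
      have htop : Ab = ⊤ := hAb ▸ Cores.fittingSubgroup_eq_top_iff.mpr hq
      rw [htop, card_top] at hAp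
      obtain ⟨i, hi⟩ := IsPGroup.iff_orderOf.mp S.isPGroup' ⟨s, hs⟩
      rw [Subgroup.orderOf_mk] at hi
      refine (QuotientGroup.eq_one_iff s).mp (orderOf_eq_one_iff.mp (Nat.eq_one_of_dvd_coprimes
        (hAp.symm.pow_left i) ?_ (orderOf_dvd_natCard _)))
      exact hi ▸ orderOf_map_dvd f s
    exact hsyl S (hSH ▸ hpb) (hSH ▸ inferInstance)
  haveI : Nontrivial (G ⧸ H) := by
    by_contra h
    haveI := not_nontrivial_iff_subsingleton.mp h
    exact hnq inferInstance
  have hAb1 : Ab ≠ ⊥ := hAb ▸ Cores.fittingSubgroup_ne_bot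
  have hAtop : Ab ≠ ⊤ := fun h => hnq (Cores.fittingSubgroup_eq_top_iff.mp (hAb ▸ h))
  have hcopB : ∀ B : Subgroup (G ⧸ H), (Nat.card B).Coprime p →
      (Nat.card H).Coprime (Nat.card B) := by
    intro B hB
    obtain ⟨j, hj⟩ := hHp.exists_card_eq
    rw [hj]
    exact hB.symm.pow_left j
  have hfpfB : ∀ {A : Subgroup G}, (Nat.card A).Coprime p →
      ∀ a ∈ A, a ≠ 1 → H ⊓ centralizer ({a} : Set G) = ⊥ := by
    intro A hA a ha ha1
    rw [eq_bot_iff_forall]
    rintro h ⟨hh, hhc⟩
    by_contra hh1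
    exact ha1 (hfpf a h hh hh1 (mem_centralizer_singleton_iff.mp hhc).symm
      (hA.coprime_dvd_left (orderOf_dvd_natCard A ha)))
  obtain ⟨A, hAdis, hAcard, hAsup, ⟨eA⟩, hAmap⟩ := exists_lift Ab (hcopB Ab hAp)
  have hAodd : Odd (Nat.card Ab) := by
    rw [← Nat.not_even_iff_odd, even_iff_two_dvd]
    intro h2
    haveI : Fact (Nat.Prime 2) := ⟨Nat.prime_two⟩
    obtain ⟨t, ht⟩ := exists_prime_orderOf_dvd_card' 2 h2
    have hK' : H.subgroupOf (H ⊔ A) ≠ ⊥ := by
      intro h
      apply hpb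
      change H = ⊥
      rw [← map_subgroupOf_eq_of_le (le_sup_left : H ≤ H ⊔ A), h, Subgroup.map_bot]
    have hA0 : A.subgroupOf (H ⊔ A) ≠ ⊥ := by
      intro h
      apply hAb1
      refine eq_bot_of_card_eq _ ?_
      rw [← hAcard, ← Nat.card_congr (subgroupOfEquivOfLe (le_sup_right : A ≤ H ⊔ A)).toEquiv, h,
        card_bot]
    have hF := (Frobenius.isFrobeniusComplement_iff_centralizer (complement_in_sup hAdis) hK' hA0).mpr
      (by
        intro e he he1
        rw [eq_bot_iff_forall]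
        rintro x ⟨hx, hxe⟩
        refine Subtype.ext (mem_bot.mp ?_)
        rw [← hfpfB (hAcard ▸ hAp) e he (fun h => he1 (Subtype.ext h))]
        exact ⟨hx, mem_centralizer_singleton_iff.mpr
          (congrArg Subtype.val (mem_centralizer_singleton_iff.mp hxe))⟩)
    have huniq : ∀ s : Ab, orderOf s = 2 → s = t := by
      intro s hs
      let i : Ab ≃* (A.subgroupOf (H ⊔ A)) :=
        eA.symm.trans (subgroupOfEquivOfLe (le_sup_right : A ≤ H ⊔ A)).symm
      refine i.injective (Subtype.ext (Frobenius.eq_of_orderOf_eq_two hF (complement_in_sup hAdis)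
        (i s).2 (i t).2 ?_ ?_))
      · rw [Subgroup.orderOf_coe, MulEquiv.orderOf_eq, hs]
      · rw [Subgroup.orderOf_coe, MulEquiv.orderOf_eq, ht]
    apply hnq
    have ht1 : (t : G ⧸ H) ≠ 1 := fun h => by
      rw [← Subgroup.orderOf_coe, h, orderOf_one] at ht; exact absurd ht (by decide)
    haveI := isNilpotent_mono (H := (⊤ : Subgroup (G ⧸ H))) (fun g _ => by
      rw [mem_centralizer_singleton_iff]
      have hg : orderOf (⟨g * t * g⁻¹, hAn.conj_mem _ t.2 g⟩ : Ab) = 2 := by
        rw [Subgroup.orderOf_mk, show g * (t : G ⧸ H) * g⁻¹ = MulAut.conj g t from rfl,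
          MulEquiv.orderOf_eq, Subgroup.orderOf_coe, ht]
      exact mul_inv_eq_iff_eq_mul.mp (congrArg Subtype.val (huniq _ hg))) (hCNq _ ht1)
    exact Group.nilpotent_of_mulEquiv Subgroup.topEquiv
  have hAcyc : IsCyclic A := by
    haveI := hAnil
    exact (isCyclic_of_fpf_action hpb hAdis (hfpfB (hAcard ▸ hAp))).2
      (Group.nilpotent_of_mulEquiv eA.symm) (hAcard ▸ hAodd)
  haveI hAbcyc : IsCyclic Ab := isCyclic_of_surjective eA eA.surjective
  have hCb : ∀ a ∈ Ab, a ≠ 1 → centralizer ({a} : Set (G ⧸ H)) ≤ Ab := by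
    intro a ha ha1
    haveI : (zpowers a).Normal := zpowers_normal_of_cyclic hAn ha
    haveI : (centralizer ({a} : Set (G ⧸ H))).Normal := by
      have h : centralizer ({a} : Set (G ⧸ H)) = centralizer ((zpowers a : Subgroup (G ⧸ H)) : Set (G ⧸ H)) :=
        le_antisymm (fun c hc => mem_centralizer_iff.mpr fun x hx => by
          obtain ⟨k, rfl⟩ := mem_zpowers_iff.mp hx
          exact (((show Commute c a from mem_centralizer_singleton_iff.mp hc).zpow_right k).eq).symm)
          (centralizer_le (by simp))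
      rw [h]; infer_instance
    rw [hAb]
    exact Cores.le_fittingSubgroup (hCNq a ha1)
  obtain ⟨M, hMdef⟩ : ∃ M : Subgroup G, M = Ab.comap f := ⟨_, rfl⟩
  have hsupM : H ⊔ A = M := hAsup.trans hMdef.symm
  have hMidx : M.index = Ab.index := hMdef ▸ index_comap_of_surjective Ab hf
  refine ⟨A, ?_, hAcyc, hAcard ▸ hAodd, hAcard ▸ hAp, ?_, ?_, ?_, hfpfB (hAcard ▸ hAp), ?_⟩
  · intro h
    apply hAb1
    refine eq_bot_of_card_eq _ ?_
    rw [← hAcard, h, card_bot]
  · change (H ⊔ A).Normal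
    rw [hsupM, hMdef]; infer_instance
  · change H ⊔ A ≠ ⊤
    rw [hsupM]
    intro h
    exact hAtop (index_eq_one.mp (by rw [← hMidx, h, index_top]))
  · change ∃ n : ℕ, (H ⊔ A).index = p ^ n
    rw [hsupM, hMidx]
    refine ⟨Ab.index.factorization p, Nat.eq_pow_of_factorization_eq_single index_ne_zero_of_finite ?_⟩
    ext r
    rw [Finsupp.single_apply]
    split_ifs with hrp
    · subst hrp; rfl
    by_contra hne
    have hr' := Nat.support_factorization Ab.index ▸ Finsupp.mem_support_iff.mpr hne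
    have hr := Nat.prime_of_mem_primeFactors hr'
    have hri := Nat.dvd_of_mem_primeFactors hr'
    haveI : Fact r.Prime := ⟨hr⟩
    -- `r` does not divide the order of `Ab`
    have hrA : ¬ r ∣ Nat.card Ab := by
      intro hrd
      obtain ⟨a, ha⟩ := exists_prime_orderOf_dvd_card' r hrd
      have ha1 : (a : G ⧸ H) ≠ 1 := fun h => hr.ne_one (by
        rw [← ha, ← Subgroup.orderOf_coe, h, orderOf_one])
      obtain ⟨R⟩ := (inferInstance : Nonempty (Sylow r (G ⧸ H)))
      refine R.not_dvd_index (hri.trans (index_dvd_of_le fun x hx => ?_))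
      refine hCb a a.2 ha1 ?_
      obtain ⟨i, hi⟩ := IsPGroup.iff_orderOf.mp R.isPGroup' ⟨x, hx⟩
      rw [Subgroup.orderOf_mk] at hi
      haveI : (zpowers (a : G ⧸ H)).Normal := zpowers_normal_of_cyclic hAn a.2
      obtain ⟨z, hz, hz1, hxz⟩ := exists_fixed_of_pElement hi
        (IsPGroup.of_card (G := ↥(zpowers (a : G ⧸ H))) (p := r) (n := 1)
          (by rw [Nat.card_zpowers, Subgroup.orderOf_coe, ha, pow_one]))
        (by rw [Ne, zpowers_eq_bot]; exact ha1)
      have hgen : zpowers z = zpowers (a : G ⧸ H) :=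
        eq_of_le_of_card_ge (zpowers_le.mpr hz) (by
          rw [Nat.card_zpowers, Nat.card_zpowers, Subgroup.orderOf_coe, ha]
          have hdvd : orderOf z ∣ r := by
            have h := Subgroup.orderOf_dvd_natCard _ hz
            rwa [Nat.card_zpowers, Subgroup.orderOf_coe, ha] at h
          rcases (Nat.dvd_prime hr).mp hdvd with h | h
          · exact absurd (orderOf_eq_one_iff.mp h) hz1
          · exact h.ge)
      obtain ⟨k, hk⟩ := mem_zpowers_iff.mp (hgen.symm ▸ mem_zpowers (a : G ⧸ H))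
      rw [mem_centralizer_singleton_iff, ← hk]
      exact ((show Commute x z from hxz).zpow_right k).eq
    obtain ⟨y, hy⟩ := exists_prime_orderOf_dvd_card' (G := G ⧸ H) r
      (hri.trans (index_dvd_card Ab))
    have hyA : y ∉ Ab := fun h => hrA (hy ▸ orderOf_dvd_natCard Ab h)
    obtain ⟨q, hq, hqd⟩ := Nat.exists_prime_and_dvd
      (fun h => hAb1 (eq_bot_of_card_eq Ab h))
    haveI : Fact q.Prime := ⟨hq⟩
    obtain ⟨a, ha⟩ := exists_prime_orderOf_dvd_card' q hqd
    have ha1 : (a : G ⧸ H) ≠ 1 := fun h => hq.ne_one (by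
      rw [← ha, ← Subgroup.orderOf_coe, h, orderOf_one])
    obtain ⟨B, hB⟩ : ∃ B : Subgroup (G ⧸ H), B = zpowers (a : G ⧸ H) ⊔ zpowers y := ⟨_, rfl⟩
    haveI : (zpowers (a : G ⧸ H)).Normal := zpowers_normal_of_cyclic hAn a.2
    have hqr : (Nat.card (zpowers (a : G ⧸ H))).Coprime (Nat.card (zpowers y)) := by
      rw [Nat.card_zpowers, Nat.card_zpowers, Subgroup.orderOf_coe, ha, hy]
      exact (Nat.coprime_primes hq hr).mpr fun h => hrA (h ▸ hqd)
    have hBcard : Nat.card B = q * r := by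
      subst hB
      have hc : IsComplement' ((zpowers (a : G ⧸ H)).subgroupOf (zpowers (a : G ⧸ H) ⊔ zpowers y))
          ((zpowers y).subgroupOf (zpowers (a : G ⧸ H) ⊔ zpowers y)) := by
        refine isComplement'_of_disjoint_and_mul_eq_univ ?_ ?_
        · rw [disjoint_def]
          intro x hx hx'
          exact Subtype.ext (disjoint_def.mp (disjoint_of_coprime_natCard hqr) hx hx')
        · rw [Set.eq_univ_iff_forall]
          intro x
          obtain ⟨u, hu, v, hv, huv⟩ : (x : G ⧸ H) ∈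
              ((zpowers (a : G ⧸ H) : Subgroup (G ⧸ H)) : Set (G ⧸ H)) * (zpowers y : Set (G ⧸ H)) := by
            rw [← normal_mul]
            exact x.2
          exact ⟨⟨u, le_sup_left (a := zpowers (a : G ⧸ H)) hu⟩, hu,
            ⟨v, le_sup_right (a := zpowers (a : G ⧸ H)) hv⟩, hv, Subtype.ext huv⟩
      rw [← hc.card_mul_card, Nat.card_congr (subgroupOfEquivOfLe le_sup_left).toEquiv,
        Nat.card_congr (subgroupOfEquivOfLe le_sup_right).toEquiv, Nat.card_zpowers,
        Nat.card_zpowers, Subgroup.orderOf_coe, ha, hy]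
    have hBp : (Nat.card B).Coprime p := by
      rw [hBcard]
      exact Nat.Coprime.mul_left (hAp.coprime_dvd_left hqd)
        ((Nat.coprime_primes hr hp).mpr (Ne.symm hrp))
    obtain ⟨B', hBdis, hB'card, -, ⟨eB⟩, -⟩ := exists_lift B (hcopB B hBp)
    haveI := (isCyclic_of_fpf_action hpb hBdis (hfpfB (hB'card ▸ hBp))).1 q r hq hr
      (hB'card.trans hBcard)
    haveI : IsCyclic B := isCyclic_of_surjective eB eB.surjective
    apply hyA
    refine hCb a a.2 ha1 (mem_centralizer_singleton_iff.mpr ?_)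
    exact congrArg Subtype.val ((IsCyclic.commGroup (α := B)).mul_comm
      ⟨y, hB ▸ le_sup_right (a := zpowers (a : G ⧸ H)) (mem_zpowers y)⟩
      ⟨(a : G ⧸ H), hB ▸ le_sup_left (b := zpowers y) (mem_zpowers _)⟩)
  · intro x hx a ha ha1 hmem
    apply hx
    change x ∈ H ⊔ A
    rw [hsupM, hMdef, mem_comap]
    have ha' : f a ∈ Ab := hAmap ▸ mem_map_of_mem f ha
    refine hCb (f a) ha' (fun h => ha1 ?_) (mem_centralizer_singleton_iff.mpr ?_)
    · have haH : a ∈ H := (QuotientGroup.eq_one_iff a).mp h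
      exact mem_bot.mp (hAdis ▸ (⟨haH, ha⟩ : a ∈ H ⊓ A))
    · have h : f (x * a * x⁻¹ * a⁻¹) = 1 := (QuotientGroup.eq_one_iff _).mpr hmem
      simp only [map_mul, map_inv] at h
      rwa [mul_inv_eq_one, mul_inv_eq_iff_eq_mul] at h

end Cfsg.Agent.Lib.CNGroup.Solvable
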