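import Mathlib
import Cfsg.Agent.Lib.CNGroup.Solvable
import Cfsg.Agent.Lib.Puig.Theorem
import Cfsg.Agent.Lib.Transfer.Fusion
import Cfsg.Agent.Lib.Induced.FrobeniusKernel
import Cfsg.Agent.Lib.OddOrder.MinSimple
import Cfsg.Agent.Lib.Cores.Normalizer

/-! Minimal simple CN-groups of odd order (Gorenstein 14.2): every maximal nilpotent subgroup is a
TI Hall subgroup and the maximal subgroups are the Frobenius groups `N(H)`. -/

set_option autoImplicit false
set_option linter.style.haveILetI false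
set_option linter.unusedSectionVars false

namespace Cfsg.Agent.Lib.CNGroup.MinSimple

open Subgroup
open scoped Pointwise
open Cfsg.Agent.Lib.CNGroup.Basic Cfsg.Agent.Lib.CNGroup.MaxNilpotent
open Cfsg.Agent.Lib.Puig.Inside Cfsg.Agent.Lib.Puig.Theorem

universe u

variable {G : Type u} [Group G]

/-! ### Conjugation -/

theorem mem_normalizer_iff_map_eq {H : Subgroup G} {g : G} :
    g ∈ normalizer (H : Set G) ↔ H.map (MulAut.conj g).toMonoidHom = H := by
  constructor
  · intro hg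
    ext y
    rw [mem_conj_map]
    refine (mem_normalizer_iff.mp hg (g⁻¹ * y * g)).trans ?_
    simp [mul_assoc]
  · intro h
    rw [mem_normalizer_iff]
    intro y
    constructor
    · intro hy
      exact h ▸ ⟨y, hy, rfl⟩
    · intro hy
      have h2 : g * y * g⁻¹ ∈ H.map (MulAut.conj g).toMonoidHom := h.symm ▸ hy
      simpa [mul_assoc] using mem_conj_map.mp h2

theorem map_normalizer_conj (H : Subgroup G) (g : G) :
    (normalizer (H : Set G)).map (MulAut.conj g).toMonoidHom =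
      normalizer ((H.map (MulAut.conj g).toMonoidHom : Subgroup G) : Set G) := by
  ext y
  rw [mem_conj_map, mem_normalizer_iff, mem_normalizer_iff]
  constructor
  · intro h w
    rw [mem_conj_map, mem_conj_map, h (g⁻¹ * w * g)]
    simp [mul_assoc]
  · intro h w
    have := h (g * w * g⁻¹)
    rw [mem_conj_map, mem_conj_map] at this
    simpa [mul_assoc] using this

/-! ### The centre of the Puig subgroup -/

theorem centerIn_le [Finite G] (S : Subgroup G) : centerIn S ≤ S := by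
  rw [centerIn_eq]
  exact inf_le_left.trans (upperIn_le S)

theorem map_centerIn [Finite G] {G' : Type u} [Group G'] [Finite G'] (f : G →* G')
    (hf : Function.Injective f) (S : Subgroup G) :
    (centerIn S).map f = centerIn (S.map f) := by
  have hcomp : Function.Injective (f.comp S.subtype) := hf.comp S.subtype_injective
  rw [centerIn_eq, centerIn_eq, ← map_upperIn f S hcomp]
  ext y
  constructor
  · rintro ⟨x, ⟨hx, hxc⟩, rfl⟩
    refine ⟨mem_map_of_mem f hx, mem_centralizer_iff.mpr ?_⟩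
    rintro _ ⟨w, hw, rfl⟩
    rw [← map_mul, ← map_mul, mem_centralizer_iff.mp hxc w hw]
  · rintro ⟨⟨x, hx, rfl⟩, hc⟩
    refine ⟨x, ⟨hx, mem_centralizer_iff.mpr fun w hw => hf ?_⟩, rfl⟩
    rw [map_mul, map_mul]
    exact mem_centralizer_iff.mp hc _ (mem_map_of_mem f hw)

theorem normalizer_le_normalizer_centerIn [Finite G] (S : Subgroup G) :
    normalizer (S : Set G) ≤ normalizer (centerIn S : Set G) := by
  intro g hg
  rw [mem_normalizer_iff_map_eq] at hg ⊢
  rw [map_centerIn _ (MulAut.conj g).injective, hg]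

theorem centerIn_ne_bot [Finite G] {p : ℕ} [Fact p.Prime] {S : Subgroup G} (hS : IsPGroup p S)
    (hne : S ≠ ⊥) : centerIn S ≠ ⊥ := by
  haveI : Nontrivial S := (nontrivial_iff_ne_bot S).mpr hne
  have h1 : center ↥S ≤ puigSubgroup ↥S := by
    rw [← Cfsg.Agent.Lib.Puig.Basic.puigStep_puigLower]
    exact Cfsg.Agent.Lib.Puig.Basic.le_puigStep_of_normal inferInstance
  haveI := hS.center_nontrivial
  have h2 : puigSubgroup ↥S ≠ ⊥ :=
    ne_bot_of_le_ne_bot ((nontrivial_iff_ne_bot _).mp inferInstance) h1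
  haveI : Nontrivial (puigSubgroup ↥S) := (nontrivial_iff_ne_bot _).mpr h2
  haveI := (hS.to_subgroup (puigSubgroup ↥S)).center_nontrivial
  rw [centerIn, Ne, map_eq_bot_iff_of_injective _ (subtype_injective _),
    map_eq_bot_iff_of_injective _ (subtype_injective _)]
  exact (nontrivial_iff_ne_bot _).mp inferInstance

variable [Finite G]

theorem prime_dvd_card {p : ℕ} [Fact p.Prime] {S : Subgroup G} (hS : IsPGroup p S) [Nontrivial S] :
    p ∣ Nat.card S := by
  obtain ⟨n, hn, hcard⟩ := hS.nontrivial_iff_card.mp inferInstance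
  exact hcard ▸ dvd_pow_self p hn.ne'

theorem eq_top_of_commutator_eq_top {Q : Type u} [Group Q] [Group.IsSolvable Q]
    (h : commutator Q = ⊤) : (⊤ : Subgroup Q) = ⊥ := by
  obtain ⟨n, hn⟩ := (inferInstance : Group.IsSolvable Q).solvable
  have hall : ∀ n, derivedSeries Q n = ⊤ := by
    intro n
    induction n with
    | zero => rfl
    | succ n ih => rw [derivedSeries_succ, ih, ← _root_.commutator_def, h]
  rw [← hall n, hn]

/-! ### Maximal nilpotent subgroups are TI -/

section PGroup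

variable (hG : Cfsg.IsMinSimpleOddOrder G) (hCN : Cfsg.IsCNGroup G) {p : ℕ} [hp : Fact p.Prime]
  (P : Sylow p G) (hP : IsMaxNilpotent (P : Subgroup G)) (hP1 : (P : Subgroup G) ≠ ⊥)
include hG hCN hP hP1

omit hG hCN hP1 in
theorem sylow_isMaxNilpotent (S : Sylow p G) : IsMaxNilpotent (S : Subgroup G) := by
  obtain ⟨g, rfl⟩ := MulAction.exists_smul_eq G P S
  exact isMaxNilpotent_conj hP g

omit hG hCN hP in
theorem sylow_ne_bot (S : Sylow p G) : (S : Subgroup G) ≠ ⊥ := by
  intro h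
  apply hP1
  refine eq_bot_of_card_eq _ ?_
  rw [Sylow.card_eq_multiplicity, ← Sylow.card_eq_multiplicity S, h, card_bot]

omit hG in
/-- A non-trivial `p`-element commutes with no non-trivial element of order prime to `p`. -/
theorem eq_one_of_commute {x a : G} {k : ℕ} (hxo : orderOf x = p ^ k) (hx1 : x ≠ 1)
    (hax : a * x = x * a) (hcop : (orderOf a).Coprime p) : a = 1 := by
  obtain ⟨S, hS⟩ := (IsPGroup.of_card (G := ↥(zpowers x)) (p := p) (n := k)
    (by rw [Nat.card_zpowers, hxo])).exists_le_sylow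
  have hSm := sylow_isMaxNilpotent P hP S
  have hxS : x ∈ (S : Subgroup G) := hS (mem_zpowers x)
  haveI : Nontrivial (S : Subgroup G) := (nontrivial_iff_ne_bot _).mpr (sylow_ne_bot P hP1 S)
  obtain ⟨z, hzS, hzo, hzc⟩ := exists_central_orderOf hSm.1 hp.out ((prime_dvd_card S.isPGroup'))
  have hz1 : z ≠ 1 := fun h => hp.out.ne_one (by rw [← hzo, h, orderOf_one])
  have haz : a * z = z * a := commute_of_common hCN hx1 hax (hzc x hxS).symm (hzo ▸ hcop)
  have haS : a ∈ (S : Subgroup G) := by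
    rw [← centralizer_eq_of_central hCN hSm hz1 hzc]
    exact mem_centralizer_singleton_iff.mpr haz
  obtain ⟨i, hi⟩ := IsPGroup.iff_orderOf.mp S.isPGroup' ⟨a, haS⟩
  rw [Subgroup.orderOf_mk] at hi
  exact orderOf_eq_one_iff.mp (Nat.eq_one_of_dvd_coprimes (hcop.pow_right i) dvd_rfl (dvd_of_eq hi))

/-- Puig's theorem in a proper subgroup with a nontrivial normal `p`-subgroup. -/
theorem le_normalizer_centerIn {X D : Subgroup G} (hX : X ≠ ⊤) (hDX : D ≤ X)
    (hD : IsPGroup p D) (hD1 : D ≠ ⊥) (hn : X ≤ normalizer (D : Set G)) (S : Sylow p X) :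
    X ≤ normalizer (centerIn ((S : Subgroup X).map X.subtype) : Set G) := by
  haveI := OddOrder.MinSimple.solvable_of_ne_top hG hX
  have hodd := OddOrder.MinSimple.odd_card hG X
  have hpP : p ∣ Nat.card G := by
    haveI : Nontrivial (P : Subgroup G) := (nontrivial_iff_ne_bot _).mpr hP1
    exact (prime_dvd_card P.isPGroup').trans (card_subgroup_dvd_card _)
  have hp2 := OddOrder.MinSimple.ne_two_of_dvd hG hpP
  haveI hDn : (D.subgroupOf X).Normal := normal_subgroupOf_of_le_normalizer hn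
  obtain ⟨⟨y, hy⟩, hy1⟩ := ne_bot_iff_exists_ne_one.mp hD1
  have hy1' : y ≠ 1 := fun h => hy1 (Subtype.ext h)
  obtain ⟨i, hi⟩ := IsPGroup.iff_orderOf.mp hD ⟨y, hy⟩
  rw [Subgroup.orderOf_mk] at hi
  have hO : pPrimeCore p X = ⊥ := by
    rw [eq_bot_iff_forall]
    intro a ha
    have hdis : Disjoint (pPrimeCore p X) (D.subgroupOf X) := by
      refine disjoint_of_coprime_natCard ?_
      obtain ⟨j, hj⟩ := hD.exists_card_eq
      rw [Nat.card_congr (subgroupOfEquivOfLe hDX).toEquiv, hj]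
      exact (Cores.pPrimeCore_coprime p).pow_right j
    have hcomm := commute_of_normal_of_disjoint (pPrimeCore p X) (D.subgroupOf X) inferInstance
      inferInstance hdis a ⟨y, hDX hy⟩ ha hy
    refine Subtype.ext (eq_one_of_commute hCN P hP hP1 hi hy1' (congrArg Subtype.val hcomm) ?_)
    rw [Subgroup.orderOf_coe]
    exact (Cores.pPrimeCore_coprime p).coprime_dvd_left (Subgroup.orderOf_dvd_natCard _ ha)
  have hnorm := centerIn_normal hodd hp2 hO S
  rw [← map_centerIn X.subtype X.subtype_injective]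
  exact le_normalizer_map X.subtype |>.trans' (by
    rw [normalizer_eq_top_iff.mpr hnorm, ← MonoidHom.range_eq_map, range_subtype])

/-- The local subgroup `N(Z(L(P)))`. -/
theorem normalizer_le_of_pSubgroup : ∀ D : Subgroup G, D ≤ normalizer (centerIn (P : Subgroup G) : Set G) →
    IsPGroup p D → D ≠ ⊥ → normalizer (D : Set G) ≤ normalizer (centerIn (P : Subgroup G) : Set G) := by
  obtain ⟨N, hN⟩ : ∃ N : Subgroup G, N = normalizer (centerIn (P : Subgroup G) : Set G) := ⟨_, rfl⟩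
  rw [← hN]
  have hPN : (P : Subgroup G) ≤ N :=
    hN ▸ le_normalizer.trans (normalizer_le_normalizer_centerIn _)
  -- every `p`-subgroup of `N` lies in a Sylow subgroup of `G` inside `N`, with the same centre
  have hsyl : ∀ S : Subgroup G, S ≤ N → IsPGroup p S →
      ∃ R : Sylow p G, S ≤ R ∧ (R : Subgroup G) ≤ N ∧
        centerIn (R : Subgroup G) = centerIn (P : Subgroup G) := by
    intro S hS hSp
    obtain ⟨T, hT⟩ := (hSp.of_equiv (subgroupOfEquivOfLe hS).symm).exists_le_sylow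
    obtain ⟨n, hn⟩ := MulAction.exists_smul_eq N (P.subtype hPN) T
    refine ⟨(n : G) • P, ?_, ?_, ?_⟩
    · intro s hs
      have h1 : (⟨s, hS hs⟩ : N) ∈ ((n • P.subtype hPN : Sylow p N) : Subgroup N) := by
        rw [hn]; exact hT hs
      rw [Sylow.smul_subtype] at h1
      exact h1
    · intro s hs
      obtain ⟨t, ht, rfl⟩ := hs
      exact mul_mem (mul_mem n.2 (hPN ht)) (inv_mem n.2)
    · change centerIn ((P : Subgroup G).map (MulAut.conj (n : G)).toMonoidHom) = _
      rw [← map_centerIn _ (MulAut.conj (n : G)).injective]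
      exact mem_normalizer_iff_map_eq.mp (hN ▸ n.2)
  suffices main : ∀ k : ℕ, ∀ D S : Subgroup G, Nat.card G - Nat.card S ≤ k → D ≤ S →
      S ≤ N ⊓ normalizer (D : Set G) → IsPGroup p S → D ≠ ⊥ → normalizer (D : Set G) ≤ N by
    intro D hD hDp hD1
    exact main _ D D le_rfl le_rfl (le_inf hD le_normalizer) hDp hD1
  intro k
  induction k using Nat.strong_induction_on with
  | _ k ih =>
  intro D S₀ hk hDS₀ hS₀ hS₀p hD1
  obtain ⟨S, ⟨hS, hSp, hS₀S⟩, hmax⟩ := Set.Finite.exists_maximalFor (id : Subgroup G → Subgroup G)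
    {S | S ≤ N ⊓ normalizer (D : Set G) ∧ IsPGroup p S ∧ S₀ ≤ S} (Set.toFinite _)
    ⟨S₀, hS₀, hS₀p, le_rfl⟩
  have hDS : D ≤ S := hDS₀.trans hS₀S
  have hS1 : S ≠ ⊥ := ne_bot_of_le_ne_bot hD1 hDS
  obtain ⟨R, hSR, hRN, hRc⟩ := hsyl S (hS.trans inf_le_left) hSp
  have hXtop : normalizer (D : Set G) ≠ ⊤ :=
    OddOrder.MinSimple.normalizer_ne_top hG hD1
      (OddOrder.MinSimple.pgroup_ne_top hG (hSp.to_le hDS))
  -- if `S` is a Sylow subgroup of `N(D)`, Puig's theorem applies
  have key : ∀ hSX : S ≤ normalizer (D : Set G),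
      (∀ T : Subgroup G, IsPGroup p T → S ≤ T → T ≤ normalizer (D : Set G) → T = S) →
      normalizer (D : Set G) ≤ normalizer (centerIn S : Set G) := by
    intro hSX hmaxX
    obtain ⟨T, hT⟩ := (hSp.of_equiv (subgroupOfEquivOfLe hSX).symm).exists_le_sylow
    have hTS : (T : Subgroup ↥(normalizer (D : Set G))).map (normalizer (D : Set G)).subtype = S := by
      refine hmaxX _ (T.isPGroup'.map _) ?_ (map_subtype_le _)
      exact fun s hs => ⟨⟨s, hSX hs⟩, hT hs, rfl⟩
    have h := le_normalizer_centerIn hG hCN P hP hP1 hXtop (hDS.trans hSX) (hSp.to_le hDS) hD1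
      le_rfl T
    rwa [hTS] at h
  have hSX : S ≤ normalizer (D : Set G) := hS.trans inf_le_right
  rcases eq_or_lt_of_le hSR with heq | hlt
  · refine (key hSX fun T hT hST hTX => ?_).trans ?_
    · subst heq
      exact R.3 hT hST
    · rw [heq, hRc, hN]
  · have hT := Cores.Normalizer.lt_normalizer_inf R.isPGroup'.isNilpotent hlt
    obtain ⟨T, hTdef⟩ : ∃ T, T = normalizer (S : Set G) ⊓ (R : Subgroup G) := ⟨_, rfl⟩
    rw [← hTdef] at hT
    have hTR : T ≤ R := hTdef ▸ inf_le_right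
    have hcard : Nat.card S < Nat.card T := by
      refine lt_of_le_of_ne (card_le_of_le hT.le) fun he => hT.ne ?_
      exact eq_of_le_of_card_ge hT.le he.ge
    have hle : normalizer (centerIn S : Set G) ≤ N := by
      refine ih (Nat.card G - Nat.card T) ?_ (centerIn S) T le_rfl ((centerIn_le S).trans hT.le)
        (le_inf (hTR.trans hRN) (hTdef ▸ inf_le_left.trans (normalizer_le_normalizer_centerIn S)))
        (R.isPGroup'.to_le hTR) (centerIn_ne_bot hSp hS1)
      have h1 : Nat.card S₀ ≤ Nat.card S := card_le_of_le hS₀S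
      have h2 : Nat.card T ≤ Nat.card G := card_le_card_group T
      omega
    refine (key hSX fun U hU hSU hUX => ?_).trans hle
    by_contra hne
    have hlt' := Cores.Normalizer.lt_normalizer_inf hU.isNilpotent (lt_of_le_of_ne hSU (Ne.symm hne))
    refine hlt'.ne (le_antisymm hlt'.le (hmax ⟨?_, hU.to_le inf_le_right, hS₀S.trans hlt'.le⟩ hlt'.le))
    exact le_inf (inf_le_left.trans ((normalizer_le_normalizer_centerIn S).trans hle))
      (inf_le_right.trans hUX)

/-- `N(Z(L(P)))` is strongly `p`-embedded. -/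
theorem mem_of_conj_mem {x g : G} {k : ℕ} (hxo : orderOf x = p ^ k) (hx1 : x ≠ 1)
    (hx : x ∈ normalizer (centerIn (P : Subgroup G) : Set G))
    (hgx : g * x * g⁻¹ ∈ normalizer (centerIn (P : Subgroup G) : Set G)) :
    g ∈ normalizer (centerIn (P : Subgroup G) : Set G) := by
  have hloc := normalizer_le_of_pSubgroup hG hCN P hP hP1
  obtain ⟨N, hN⟩ : ∃ N : Subgroup G, N = normalizer (centerIn (P : Subgroup G) : Set G) := ⟨_, rfl⟩
  rw [← hN] at hx hgx hloc ⊢
  have hPN : (P : Subgroup G) ≤ N :=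
    hN ▸ le_normalizer.trans (normalizer_le_normalizer_centerIn _)
  have hcyc : ∀ w : G, w ∈ N → w ≠ 1 → (∃ j, orderOf w = p ^ j) →
      centralizer ({w} : Set G) ≤ N := by
    intro w hw hw1 ⟨j, hj⟩ c hc
    refine hloc (zpowers w) (zpowers_le.mpr hw) (IsPGroup.of_card (n := j) (by
      rw [Nat.card_zpowers, hj])) (by rw [Ne, zpowers_eq_bot]; exact hw1) ?_
    rw [mem_centralizer_singleton_iff] at hc
    rw [mem_normalizer_iff]
    intro y
    have key : ∀ d : G, Commute d w → ∀ y ∈ zpowers w, d * y * d⁻¹ ∈ zpowers w := by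
      intro d hd y hy
      obtain ⟨i, rfl⟩ := mem_zpowers_iff.mp hy
      rw [(hd.zpow_right i).eq, mul_inv_cancel_right]
      exact zpow_mem (mem_zpowers w) i
    exact ⟨key c hc y, fun h => by
      simpa [mul_assoc] using key c⁻¹ (show Commute c w from hc).inv_left _ h⟩
  -- a Sylow subgroup of `N` containing `g x g⁻¹`
  obtain ⟨y, hy⟩ : ∃ y, y = g * x * g⁻¹ := ⟨_, rfl⟩
  rw [← hy] at hgx
  have hyo : orderOf y = p ^ k := by
    rw [hy, show g * x * g⁻¹ = MulAut.conj g x from rfl, MulEquiv.orderOf_eq, hxo]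
  obtain ⟨T, hT⟩ := (IsPGroup.of_card (G := ↥(zpowers (⟨y, hgx⟩ : N))) (p := p) (n := k)
    (by rw [Nat.card_zpowers, Subgroup.orderOf_mk, hyo])).exists_le_sylow
  obtain ⟨n, hn⟩ := MulAction.exists_smul_eq N (P.subtype hPN) T
  obtain ⟨R, hR⟩ : ∃ R : Sylow p G, R = (n : G) • P := ⟨_, rfl⟩
  have hRN : (R : Subgroup G) ≤ N := by
    rintro s hs
    rw [hR] at hs
    obtain ⟨t, ht, rfl⟩ := hs
    exact mul_mem (mul_mem n.2 (hPN ht)) (inv_mem n.2)
  have hyR : y ∈ (R : Subgroup G) := by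
    have h1 : (⟨y, hgx⟩ : N) ∈ ((n • P.subtype hPN : Sylow p N) : Subgroup N) := by
      rw [hn]; exact hT (mem_zpowers _)
    rw [Sylow.smul_subtype] at h1
    rw [hR]; exact h1
  haveI : Nontrivial (R : Subgroup G) := (nontrivial_iff_ne_bot _).mpr (sylow_ne_bot P hP1 R)
  obtain ⟨z, hzR, hzo, hzc⟩ := exists_central_orderOf (sylow_isMaxNilpotent P hP R).1 hp.out
    (prime_dvd_card R.isPGroup')
  have hz1 : z ≠ 1 := fun h => hp.out.ne_one (by rw [← hzo, h, orderOf_one])
  have hz' : g⁻¹ * z * g ∈ N := by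
    refine hcyc x hx hx1 ⟨k, hxo⟩ (mem_centralizer_singleton_iff.mpr ?_)
    have h := hzc y hyR
    rw [hy] at h
    calc g⁻¹ * z * g * x = g⁻¹ * (z * (g * x * g⁻¹)) * g := by group
      _ = g⁻¹ * ((g * x * g⁻¹) * z) * g := by rw [h]
      _ = x * (g⁻¹ * z * g) := by group
  have hRg : ((g⁻¹ • R : Sylow p G) : Subgroup G) ≤ N := by
    rintro _ ⟨r, hr, rfl⟩
    refine hcyc _ hz' (fun h => hz1 ?_) ⟨1, ?_⟩ (mem_centralizer_singleton_iff.mpr ?_)
    · calc z = g * (g⁻¹ * z * g) * g⁻¹ := by group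
        _ = 1 := by rw [h]; group
    · rw [pow_one, show g⁻¹ * z * g = MulAut.conj g⁻¹ z by simp, MulEquiv.orderOf_eq, hzo]
    · have h := hzc r hr
      change g⁻¹ * r * g⁻¹⁻¹ * (g⁻¹ * z * g) = g⁻¹ * z * g * (g⁻¹ * r * g⁻¹⁻¹)
      calc g⁻¹ * r * g⁻¹⁻¹ * (g⁻¹ * z * g) = g⁻¹ * (r * z) * g := by group
        _ = g⁻¹ * (z * r) * g := by rw [h]
        _ = g⁻¹ * z * g * (g⁻¹ * r * g⁻¹⁻¹) := by group
  obtain ⟨m, hm⟩ := MulAction.exists_smul_eq N ((g⁻¹ • R : Sylow p G).subtype hRg) (R.subtype hRN)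
  rw [Sylow.smul_subtype] at hm
  have hfix : ((m : G) * g⁻¹) • R = R := by
    rw [mul_smul]
    exact Sylow.subtype_injective hm
  have hmem : (m : G) * g⁻¹ ∈ N := by
    refine hloc R hRN R.isPGroup' (sylow_ne_bot P hP1 R) ?_
    rw [mem_normalizer_iff_map_eq]
    exact congrArg Sylow.toSubgroup hfix
  have := mul_mem (inv_mem hmem) m.2
  simpa using this

/-- A maximal nilpotent Sylow subgroup is normal in its local subgroup and is TI. -/
theorem normalizer_centerIn_le :
    normalizer (centerIn (P : Subgroup G) : Set G) ≤ normalizer ((P : Subgroup G) : Set G) := by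
  have hemb := fun {x g : G} {k : ℕ} => mem_of_conj_mem hG hCN P hP hP1 (x := x) (g := g) (k := k)
  obtain ⟨N, hN⟩ : ∃ N : Subgroup G, N = normalizer (centerIn (P : Subgroup G) : Set G) := ⟨_, rfl⟩
  rw [← hN]
  simp only [← hN] at hemb
  have hPN : (P : Subgroup G) ≤ N :=
    hN ▸ le_normalizer.trans (normalizer_le_normalizer_centerIn _)
  have hNtop : N ≠ ⊤ := hN ▸ OddOrder.MinSimple.normalizer_ne_top hG
    (centerIn_ne_bot P.isPGroup' hP1)
    (OddOrder.MinSimple.pgroup_ne_top hG (P.isPGroup'.to_le (centerIn_le _)))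
  have hfoc : (P : Subgroup G) ≤ ⁅N, N⁆ := by
    have h := Cfsg.Agent.Lib.Transfer.Fusion.commutator_inf_sylow_eq_of_controls P N hPN
      (fun x hx g hgx => by
        rcases eq_or_ne x 1 with rfl | hx1
        · exact ⟨1, one_mem N, by simp⟩
        · obtain ⟨k, hk⟩ := IsPGroup.iff_orderOf.mp P.isPGroup' ⟨x, hx⟩
          rw [Subgroup.orderOf_mk] at hk
          exact ⟨g, hemb hk hx1 (hPN hx) (hPN hgx), rfl⟩)
    rw [_root_.commutator_def, OddOrder.MinSimple.commutator_eq_top hG, top_inf_eq] at h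
    exact h.le.trans inf_le_left
  haveI := OddOrder.MinSimple.solvable_of_ne_top hG hNtop
  have hCN' := isCNGroup_subgroup hCN N
  -- `N` has no proper quotient that is a `p`-group
  have hnoq : ∀ M : Subgroup N, M.Normal → (∃ n, M.index = p ^ n) → M = ⊤ := by
    intro M hM hMn
    obtain ⟨n, hn⟩ := hMn
    haveI : Group.IsSolvable (↥N ⧸ M) :=
      Group.isSolvable_of_surjective (QuotientGroup.mk'_surjective M)
    have himg : ((P : Subgroup G).subgroupOf N).map (QuotientGroup.mk' M) = ⊤ := by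
      rw [← index_eq_one]
      refine Nat.eq_one_of_dvd_coprimes (a := p ^ n) (b := ((P : Subgroup G).subgroupOf N).index) ?_ ?_
        (index_map_dvd _ (QuotientGroup.mk'_surjective M))
      · exact (Nat.Coprime.pow_left n ((hp.out.coprime_iff_not_dvd).mpr (P.subtype hPN).not_dvd_index))
      · rw [← hn]
        exact index_dvd_card _
    have hcomm : commutator (↥N ⧸ M) = ⊤ := by
      rw [eq_top_iff, ← himg, map_le_iff_le_comap]
      intro x hx
      have hx' : x ∈ commutator N := by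
        have h := hfoc hx
        rw [← Subgroup.map_subtype_commutator] at h
        obtain ⟨x', hx', he⟩ := h
        rwa [← Subtype.ext he]
      rw [mem_comap]
      have := map_commutator (⊤ : Subgroup N) ⊤ (QuotientGroup.mk' M)
      rw [_root_.commutator_def] at hx' ⊢
      exact (commutator_mono le_top le_top) (this ▸ mem_map_of_mem _ hx')
    rw [eq_top_iff]
    intro x _
    rw [← QuotientGroup.eq_one_iff]
    exact mem_bot.mp ((eq_top_of_commutator_eq_top hcomm) ▸ mem_top _)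
  have hpN : p ∣ Nat.card N := by
    haveI : Nontrivial (P : Subgroup G) := (nontrivial_iff_ne_bot _).mpr hP1
    exact (prime_dvd_card P.isPGroup').trans (card_dvd_of_le hPN)
  obtain ⟨W, hW⟩ : ∃ W : Subgroup N, W = (centerIn (P : Subgroup G)).subgroupOf N := ⟨_, rfl⟩
  haveI hWn : W.Normal := hW ▸ normal_subgroupOf_of_le_normalizer hN.le
  have hWp : IsPGroup p W := hW ▸ (P.isPGroup'.to_le (centerIn_le _)).of_equiv
    (subgroupOfEquivOfLe ((centerIn_le _).trans hPN)).symm
  have hW1 : W ≠ ⊥ := by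
    intro h
    apply centerIn_ne_bot P.isPGroup' hP1
    rw [← map_subgroupOf_eq_of_le ((centerIn_le _).trans hPN), ← hW, h, Subgroup.map_bot]
  rcases Solvable.trichotomy hCN' with hnil | ⟨K, hKn, hK, -⟩ | ⟨r, hr, h3⟩
  · exact (hP.2 N hnil hPN).le.trans le_normalizer
  · haveI := hKn
    have hWK : W ≤ K := by
      haveI := hWp.isNilpotent
      have := hK.2 (K ⊔ W) (Cores.isNilpotent_sup hK.1 hWp.isNilpotent) le_sup_left
      exact this ▸ le_sup_right
    haveI : Nontrivial W := (nontrivial_iff_ne_bot _).mpr hW1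
    have hpK : p ∣ Nat.card K := (prime_dvd_card hWp).trans (card_dvd_of_le hWK)
    obtain ⟨S, hS⟩ := exists_sylow_le hCN' hK hpK
    have hPK : (P : Subgroup G).subgroupOf N ≤ K := by
      obtain ⟨m, hm⟩ := MulAction.exists_smul_eq N S (P.subtype hPN)
      have h1 : (P : Subgroup G).subgroupOf N = ((m • S : Sylow p N) : Subgroup N) := by
        rw [hm]; rfl
      rw [h1]
      rintro _ ⟨s, hs, rfl⟩
      exact hKn.conj_mem _ (hS hs) m
    have hKP : K.map N.subtype = (P : Subgroup G) := by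
      refine hP.2 _ (Cores.isNilpotent_map _ hK.1) ?_
      rw [← map_subgroupOf_eq_of_le hPN]
      exact map_mono hPK
    rw [← hKP]
    exact OddOrder.Basic.le_normalizer_map_subtype N K
  · exfalso
    obtain ⟨hr1, A, -, -, -, -, hn, hne, hidx, -, -⟩ := h3
    haveI : Fact r.Prime := ⟨hr⟩
    by_cases hrp : r = p
    · subst hrp
      exact hne (hnoq _ hn hidx)
    · haveI : Nontrivial (Cfsg.pCore r N) := (nontrivial_iff_ne_bot _).mpr hr1
      have hRp : IsPGroup r (Cfsg.pCore r N) := Cores.pCore_isPGroup r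
      obtain ⟨i, hi, hcard⟩ := hRp.nontrivial_iff_card.mp inferInstance
      obtain ⟨a, ha⟩ := exists_prime_orderOf_dvd_card' r (G := Cfsg.pCore r N)
        (hcard ▸ dvd_pow_self r hi.ne')
      obtain ⟨j, hj, hWcard⟩ := hWp.nontrivial_iff_card.mp ((nontrivial_iff_ne_bot _).mpr hW1)
      obtain ⟨w, hw⟩ := exists_prime_orderOf_dvd_card' p (G := W) (hWcard ▸ dvd_pow_self p hj.ne')
      have hdis : Disjoint (Cfsg.pCore r N) W := IsPGroup.disjoint_of_ne r p hrp _ _ hRp hWp
      have hcomm := commute_of_normal_of_disjoint _ _ inferInstance hWn hdis a w a.2 w.2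
      have hw1 : ((w : N) : G) ≠ 1 := fun h => hp.out.ne_one (by
        rw [← hw, ← Subgroup.orderOf_coe, ← Subgroup.orderOf_coe, h, orderOf_one])
      have ha1 := eq_one_of_commute hCN P hP hP1 (k := 1)
        (by rw [Subgroup.orderOf_coe, Subgroup.orderOf_coe, hw, pow_one]) hw1
        (congrArg Subtype.val hcomm) (by
          rw [Subgroup.orderOf_coe, Subgroup.orderOf_coe, ha]
          exact (Nat.coprime_primes hr hp.out).mpr hrp)
      exact hr.ne_one (by rw [← ha, ← Subgroup.orderOf_coe, ← Subgroup.orderOf_coe, ha1, orderOf_one])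

theorem sylow_ti {g : G} (hne : (P : Subgroup G).map (MulAut.conj g).toMonoidHom ≠ P) :
    (P : Subgroup G) ⊓ (P : Subgroup G).map (MulAut.conj g).toMonoidHom = ⊥ := by
  rw [eq_bot_iff_forall]
  rintro x ⟨hx, hx'⟩
  by_contra hx1
  apply hne
  have hx'' : g⁻¹ * x * g ∈ (P : Subgroup G) := mem_conj_map.mp hx'
  clear hx'
  have hx' := hx''
  have hPN : (P : Subgroup G) ≤ normalizer (centerIn (P : Subgroup G) : Set G) :=
    le_normalizer.trans (normalizer_le_normalizer_centerIn _)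
  obtain ⟨k, hk⟩ := IsPGroup.iff_orderOf.mp P.isPGroup' ⟨g⁻¹ * x * g, hx'⟩
  rw [Subgroup.orderOf_mk] at hk
  refine mem_normalizer_iff_map_eq.mp (normalizer_centerIn_le hG hCN P hP hP1
    (mem_of_conj_mem hG hCN P hP hP1 hk (fun h => hx1 ?_) (hPN hx') (hPN ?_)))
  · calc x = g * (g⁻¹ * x * g) * g⁻¹ := by group
      _ = 1 := by rw [h]; group
  · rw [show g * (g⁻¹ * x * g) * g⁻¹ = x by group]
    exact hx

end PGroup

/-! ### The maximal subgroups -/

section Main

variable (hG : Cfsg.IsMinSimpleOddOrder G) (hCN : Cfsg.IsCNGroup G)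
include hG hCN

omit hCN in
theorem ne_top {H : Subgroup G} (hH : IsMaxNilpotent H) : H ≠ ⊤ := by
  haveI := hH.1
  exact OddOrder.MinSimple.ne_top_of_solvable hG inferInstance

omit hCN in
theorem ne_bot {H : Subgroup G} (hH : IsMaxNilpotent H) : H ≠ ⊥ :=
  Solvable.ne_bot_of_isMaxNilpotent hH (ne_top hG hH)

theorem ti {H : Subgroup G} (hH : IsMaxNilpotent H) (g : G)
    (hne : H.map (MulAut.conj g).toMonoidHom ≠ H) :
    H ⊓ H.map (MulAut.conj g).toMonoidHom = ⊥ := by
  by_cases hpp : IsPrimePow (Nat.card H)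
  · obtain ⟨p, k, hp, hk, hpk⟩ := hpp
    rw [← Nat.prime_iff] at hp
    haveI : Fact p.Prime := ⟨hp⟩
    obtain ⟨S, hS⟩ := exists_sylow_le hCN hH (p := p) (hpk ▸ dvd_pow_self p hk.ne')
    have hHS : H = (S : Subgroup G) := S.3 (IsPGroup.of_card (n := k) hpk.symm) hS
    subst hHS
    exact sylow_ti hG hCN S hH (ne_bot hG hH) hne
  · exact ti_of_not_isPrimePow hCN hH hpp hne

theorem centralizer_le {H : Subgroup G} (hH : IsMaxNilpotent H) {x : G} (hx : x ∈ H) (hx1 : x ≠ 1) :
    centralizer ({x} : Set G) ≤ H :=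
  centralizer_le_of_ti hCN hH (ti hG hCN hH) hx hx1

theorem eq_of_inf_ne_bot {H₁ H₂ : Subgroup G} (h1 : IsMaxNilpotent H₁) (h2 : IsMaxNilpotent H₂)
    (h : H₁ ⊓ H₂ ≠ ⊥) : H₁ = H₂ := by
  obtain ⟨⟨x, hx1, hx2⟩, hne⟩ := ne_bot_iff_exists_ne_one.mp h
  have hx : x ≠ 1 := fun h => hne (Subtype.ext h)
  obtain ⟨q, hq, hqd⟩ := Nat.exists_prime_and_dvd
    (fun h' => ne_bot hG h1 (eq_bot_of_card_eq H₁ h'))
  obtain ⟨z, hz, hzo, hzc⟩ := exists_central_orderOf h1.1 hq hqd
  have hz1 : z ≠ 1 := fun h => hq.ne_one (by rw [← hzo, h, orderOf_one])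
  have hz2 : z ∈ H₂ := centralizer_le hG hCN h2 hx2 hx
    (mem_centralizer_singleton_iff.mpr (hzc x hx1).symm)
  have hle : H₁ ≤ H₂ := by
    rw [← centralizer_eq_of_central hCN h1 hz1 hzc]
    exact centralizer_le hG hCN h2 hz2 hz1
  exact (h1.2 H₂ h2.1 hle).symm

theorem le_normalizer_of_normal {H D X : Subgroup G} (hH : IsMaxNilpotent H) (hD : D ≠ ⊥)
    (hDH : D ≤ H) (hX : X ≤ normalizer (D : Set G)) : X ≤ normalizer (H : Set G) := by
  intro g hg
  rw [mem_normalizer_iff_map_eq]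
  refine eq_of_inf_ne_bot hG hCN (isMaxNilpotent_conj hH g) hH (ne_bot_of_le_ne_bot hD ?_)
  refine le_inf ?_ hDH
  rw [← mem_normalizer_iff_map_eq.mp (hX hg)]
  exact map_mono hDH

theorem normalizer_ne_self {H : Subgroup G} (hH : IsMaxNilpotent H) :
    normalizer (H : Set G) ≠ H := by
  intro heq
  have hF : Cfsg.IsFrobeniusComplement H := by
    refine ⟨ne_bot hG hH, ne_top hG hH, fun g hg => ?_⟩
    rw [← Frobenius.map_conj_eq_smul]
    exact ti hG hCN hH g fun h => hg (heq ▸ mem_normalizer_iff_map_eq.mpr h)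
  obtain ⟨K, hK, -, hc⟩ := Induced.FrobeniusKernel.exists_frobeniusKernel_subgroup hF
  rcases OddOrder.MinSimple.eq_bot_or_top hG hK with rfl | rfl
  · exact ne_top hG hH (isComplement'_bot_left.mp hc)
  · exact ne_bot hG hH (isComplement'_top_left.mp hc)

theorem normalizer_ne_top' {H : Subgroup G} (hH : IsMaxNilpotent H) :
    normalizer (H : Set G) ≠ ⊤ :=
  OddOrder.MinSimple.normalizer_ne_top hG (ne_bot hG hH) (ne_top hG hH)

omit hG hCN in
theorem isMaxNilpotent_subgroupOf {H M : Subgroup G} (hH : IsMaxNilpotent H) (hle : H ≤ M) :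
    IsMaxNilpotent (H.subgroupOf M) := by
  haveI := hH.1
  refine ⟨Group.nilpotent_of_mulEquiv (subgroupOfEquivOfLe hle).symm, fun L hL hHL => ?_⟩
  have h := hH.2 (L.map M.subtype) (Cores.isNilpotent_map _ hL)
    (by rw [← map_subgroupOf_eq_of_le hle]; exact map_mono hHL)
  refine map_injective M.subtype_injective ?_
  rw [h, map_subgroupOf_eq_of_le hle]

/-- `N(H)` is a Frobenius group with kernel `H` and cyclic complement. -/
theorem exists_complement {H : Subgroup G} (hH : IsMaxNilpotent H) :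
    ∃ E : Subgroup G, Cfsg.IsComplIn H E (normalizer (H : Set G)) ∧ E ≠ ⊥ ∧ IsCyclic E ∧
      ∀ e ∈ E, e ≠ 1 → H ⊓ centralizer ({e} : Set G) = ⊥ := by
  obtain ⟨M, hM⟩ : ∃ M : Subgroup G, M = normalizer (H : Set G) := ⟨_, rfl⟩
  rw [← hM]
  have hle : H ≤ M := hM ▸ le_normalizer
  haveI : (H.subgroupOf M).Normal := normal_subgroupOf_of_le_normalizer hM.le
  have hK := isMaxNilpotent_subgroupOf hH hle
  have hne : H.subgroupOf M ≠ ⊤ := fun h =>
    normalizer_ne_self hG hCN hH (le_antisymm (hM ▸ subgroupOf_eq_top.mp h) le_normalizer)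
  obtain ⟨E, hc, hE1, -, hfpf, hnil⟩ := Solvable.exists_frobenius (isCNGroup_subgroup hCN M) hK hne
  have hcyc : IsCyclic E := by
    refine Solvable.isCyclic_of_fpf_of_odd hc (Solvable.ne_bot_of_isMaxNilpotent hK hne) hfpf hnil ?_
    exact (OddOrder.MinSimple.odd_card hG M).of_dvd_nat (card_subgroup_dvd_card E)
  refine ⟨E.map M.subtype, ⟨hle, map_subtype_le _, ?_, ?_⟩, ?_, ?_, ?_⟩
  · rw [eq_bot_iff_forall]
    rintro _ ⟨hxH, ⟨e, he, rfl⟩⟩
    exact congrArg Subtype.val (disjoint_def.mp hc.disjoint (x := e) hxH he)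
  · intro m hm
    obtain ⟨⟨⟨a, ha⟩, ⟨b, hb⟩⟩, hab⟩ := hc.2 ⟨m, hm⟩
    exact ⟨a, ha, b, mem_map_of_mem _ hb, (congrArg Subtype.val hab).symm⟩
  · rwa [Ne, map_eq_bot_iff_of_injective _ M.subtype_injective]
  · exact isCyclic_of_surjective _ ((E.equivMapOfInjective M.subtype M.subtype_injective).surjective)
  · rintro _ ⟨e, he, rfl⟩ he1
    rw [eq_bot_iff_forall]
    rintro x ⟨hx, hxe⟩
    by_contra hx1
    have heH : (e : G) ∈ H := centralizer_le hG hCN hH hx hx1
      (mem_centralizer_singleton_iff.mpr (mem_centralizer_singleton_iff.mp hxe).symm)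
    exact he1 (congrArg Subtype.val (disjoint_def.mp hc.disjoint (x := e) heH he))

theorem commutator_mem {H : Subgroup G} (hH : IsMaxNilpotent H) {a b : G}
    (ha : a ∈ normalizer (H : Set G)) (hb : b ∈ normalizer (H : Set G)) :
    a * b * a⁻¹ * b⁻¹ ∈ H := by
  obtain ⟨E, hE, -, hcyc, -⟩ := exists_complement hG hCN hH
  obtain ⟨M, hM⟩ : ∃ M : Subgroup G, M = normalizer (H : Set G) := ⟨_, rfl⟩
  rw [← hM] at hE ha hb
  haveI : (H.subgroupOf M).Normal := normal_subgroupOf_of_le_normalizer hM.le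
  let f : M →* M ⧸ H.subgroupOf M := QuotientGroup.mk' _
  have hlift : ∀ m : M, ∃ e : E, f m = f ⟨e, hE.2.1 e.2⟩ := by
    intro m
    obtain ⟨x, hx, y, hy, hxy⟩ := hE.2.2.2 m m.2
    refine ⟨⟨y, hy⟩, ?_⟩
    have hm : m = (⟨x, hE.1 hx⟩ : M) * ⟨y, hE.2.1 hy⟩ := Subtype.ext hxy
    rw [hm, map_mul, show f ⟨x, hE.1 hx⟩ = 1 from (QuotientGroup.eq_one_iff _).mpr hx, one_mul]
  obtain ⟨⟨e₁, h₁⟩, he₁⟩ := hlift ⟨a, ha⟩
  obtain ⟨⟨e₂, h₂⟩, he₂⟩ := hlift ⟨b, hb⟩
  have hcomm : Commute (f ⟨a, ha⟩) (f ⟨b, hb⟩) := by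
    rw [he₁, he₂]
    refine Commute.map (Subtype.ext ?_) f
    exact congrArg (fun t : E => (t : G)) ((IsCyclic.commGroup (α := E)).mul_comm ⟨e₁, h₁⟩ ⟨e₂, h₂⟩)
  have h : f (⟨a, ha⟩ * ⟨b, hb⟩ * (⟨a, ha⟩ : M)⁻¹ * (⟨b, hb⟩ : M)⁻¹) = 1 := by
    rw [map_mul, map_mul, map_mul, map_inv, map_inv, hcomm.eq, mul_inv_cancel_right, mul_inv_cancel]
  have h' := (QuotientGroup.eq_one_iff (N := H.subgroupOf M) _).mp h
  exact h'

theorem exists_of_coatom {M : Subgroup G} (hM : IsCoatom M) :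
    ∃ H : Subgroup G, IsMaxNilpotent H ∧ M = normalizer (H : Set G) := by
  obtain ⟨H, hH, hle⟩ := exists_maxNilpotent_ge (OddOrder.Basic.fittingOf_isNilpotent M)
  refine ⟨H, hH, (hM.le_iff.mp ?_).resolve_left (normalizer_ne_top' hG hCN hH) |>.symm⟩
  exact le_normalizer_of_normal hG hCN hH (OddOrder.MinSimple.fittingOf_ne_bot hG hM) hle
    (OddOrder.Basic.fittingOf_normal M)

theorem normalizer_isCoatom {H : Subgroup G} (hH : IsMaxNilpotent H) :
    IsCoatom (normalizer (H : Set G)) := by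
  obtain ⟨M, hM, hle⟩ := OddOrder.MinSimple.exists_coatom_ge hG (normalizer_ne_top' hG hCN hH)
  obtain ⟨H', hH', rfl⟩ := exists_of_coatom hG hCN hM
  by_cases h : H ⊓ H' = ⊥
  · exfalso
    apply normalizer_ne_self hG hCN hH
    refine le_antisymm (fun m hm => ?_) le_normalizer
    obtain ⟨⟨x, hx⟩, hx1⟩ := ne_bot_iff_exists_ne_one.mp (ne_bot hG hH)
    refine centralizer_le hG hCN hH hx (fun h' => hx1 (Subtype.ext h'))
      (mem_centralizer_singleton_iff.mpr ?_)
    have h2 : m * x * m⁻¹ * x⁻¹ ∈ H ⊓ H' :=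
      ⟨H.mul_mem ((mem_normalizer_iff.mp hm x).mp hx) (H.inv_mem hx),
        commutator_mem hG hCN hH' (hle hm) (hle (le_normalizer hx))⟩
    rw [h, mem_bot, mul_inv_eq_one, mul_inv_eq_iff_eq_mul] at h2
    exact h2
  · rwa [eq_of_inf_ne_bot hG hCN hH hH' h]

theorem fittingHallOf_normalizer {H : Subgroup G} (hH : IsMaxNilpotent H) :
    Cfsg.fittingHallOf (normalizer (H : Set G)) = H := by
  haveI : (H.subgroupOf (normalizer (H : Set G))).Normal := normal_subgroupOf_of_le_normalizer le_rfl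
  rw [Cfsg.fittingHallOf, Solvable.fittingHall_eq (isCNGroup_subgroup hCN _)
    (isMaxNilpotent_subgroupOf hH le_normalizer), map_subgroupOf_eq_of_le le_normalizer]

/-- Maximal nilpotent subgroups sharing a prime divisor are conjugate. -/
theorem conj_of_common_prime {H₁ H₂ : Subgroup G} (h1 : IsMaxNilpotent H₁) (h2 : IsMaxNilpotent H₂)
    {p : ℕ} (hp : p.Prime) (hd1 : p ∣ Nat.card H₁) (hd2 : p ∣ Nat.card H₂) :
    ∃ g : G, H₂ = H₁.map (MulAut.conj g).toMonoidHom := by
  haveI : Fact p.Prime := ⟨hp⟩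
  obtain ⟨S₁, hS₁⟩ := exists_sylow_le hCN h1 hd1
  obtain ⟨S₂, hS₂⟩ := exists_sylow_le hCN h2 hd2
  obtain ⟨g, hg⟩ := MulAction.exists_smul_eq G S₁ S₂
  refine ⟨g, eq_of_inf_ne_bot hG hCN h2 (isMaxNilpotent_conj h1 g) ?_⟩
  refine ne_bot_of_le_ne_bot
    (S₂.ne_bot_of_dvd_card (hd2.trans (card_subgroup_dvd_card H₂))) (le_inf hS₂ ?_)
  rw [← hg]
  exact map_mono hS₁

end Main

end Cfsg.Agent.Lib.CNGroup.MinSimple
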